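import Cfsg.Agent.Wz.D
import Cfsg.Agent.H1.Basic

/-! Generation of the fusion system; the instance `BIG`. -/

set_option autoImplicit false
set_option linter.unusedSectionVars false

namespace Cfsg.Agent.Wz

open Subgroup Equiv Cfsg.Fus Cfsg.Agent.FT Cfsg.FusionSystem

variable {G : Type*} [Group G] [Finite G] {k : ℕ} {x y z r s g t u v w : G} {a b c d i j : ℤ} {P Q : Subgroup G}
  {σ τ φ ψ α : Perm G} {F E : FusionSystem (⊤ : Subgroup G)}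

def Nice (F E : FusionSystem (⊤ : Subgroup G)) (z s : G) : Prop :=
  ∃ ψ : Perm G, F.IsMap 𝐂[s] ψ ∧ E.IsMap 𝐂[s] ψ ∧ ψ s = z

theorem Nice.pull (h : Nice F E z (σ s)) (h1 : F.IsMap Q σ) (h2 : E.IsMap Q σ) (hQ : 𝐂[s] ≤ Q) : Nice F E z s :=
  let ⟨_, p1, p2, p3⟩ := h
  have m : ∀ g ∈ 𝐂[s], σ g ∈ 𝐂[σ s] := fun _ hg =>
    mem_cent1.2 ((h1.comm (hQ hg) (hQ (self_mem_cent1 s))).2 (mem_cent1.1 hg))
  ⟨_, (h1.mono hQ).mul p1 m, (h2.mono hQ).mul p2 m, p3⟩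

theorem Nice.isMap (h : Nice F E z (σ z)) (hE : ∀ P, ∀ σ : Perm G, F.IsMap P σ → z ∈ P → σ z = z → E.IsMap P σ)
    (h1 : F.IsMap P σ) (hz : z ∈ P) (c : ∀ g, Commute z g) : E.IsMap P σ := by
  obtain ⟨ψ, p1, p2, p3⟩ := h
  have m : ∀ g ∈ P, σ g ∈ 𝐂[σ z] := fun g hg => mem_cent1.2 ((h1.comm hg hz).2 (c g).symm)
  simpa [← mul_assoc] using (hE _ _ (h1.mul p1 m) hz p3).mul p2.inv fun g hg => mem_img_of_mem _ (m g hg)

/-- maps inducing the identity on `G / M` -/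
def modData (M : Subgroup G) (hM : ∀ g s, g⁻¹ * (s * g * s⁻¹) ∈ M) : PermData (⊤ : Subgroup G) where
  M P σ := HomOn σ P ∧ ∀ g ∈ P, g⁻¹ * σ g ∈ M
  congr h e := ⟨h.1.congr e, fun g hg => e g hg ▸ h.2 g hg⟩
  homOn h := h.1
  le _ := le_top
  mem _ _ _ := trivial
  conj _ _ := ⟨homOn_cj _ _, fun g _ => hM g _⟩
  mul h1 h2 e := ⟨h1.1.comp h2.1 e, fun g hg => by simpa using mul_mem (h1.2 g hg) (h2.2 _ (e g hg))⟩
  inv h := ⟨h.1.perm_inv, fun g hg => by simpa using inv_mem (h.2 _ (h.1.mem_img_perm.1 hg))⟩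

theorem Hyp.comm_x (h : Hyp F k x y z) (g s : G) : Commute (g⁻¹ * (s * g * s⁻¹)) x := by
  obtain ⟨i, -, -, e1, -⟩ := h.act g
  obtain ⟨j, -, -, e2, -⟩ := h.act s⁻¹
  have : s⁻¹ * (g * x * g⁻¹) * s⁻¹⁻¹ = g * (s⁻¹ * x * s⁻¹⁻¹) * g⁻¹ := by rw [e1, cjz e2, e2, cjz e1, mul_comm]
  refine mul_inv_eq_iff_eq_mul.1 ?_
  rw [show g⁻¹ * (s * g * s⁻¹) * x * (g⁻¹ * (s * g * s⁻¹))⁻¹ = g⁻¹ * s * (g * (s⁻¹ * x * s⁻¹⁻¹) * g⁻¹) * s⁻¹ * g by group,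
    ← this]
  group

theorem Hyp.fix_x (h : Hyp F k x y z) (h1 : F.IsMap P σ) (hz : z ∈ P) (e : σ z = z) (hg : g ∈ P) :
    ∃ c, Commute c x ∧ ∃ r ∈ closure ({x, y} : Set G), g⁻¹ * σ g = c * r := by
  obtain ⟨τ, t1, t2, t3⟩ := h.ext_R h1 hz e
  obtain ⟨m, -, hm, e1, -⟩ := h.qg.act' t1.homOn τ.injective.injOn le_sup_right t2
  obtain ⟨i, -, -, e2, -⟩ := h.act g
  obtain ⟨n, -, e3⟩ := gen_odd h.ox hm
  have xm : x ∈ P ⊔ closure {x, y} := mem_sup_right h.qg.xm1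
  have := t1.homOn.map_conj (mem_sup_left hg) xm
  rw [e2, t1.homOn.map_zpow xm, e1] at this
  have e4 := cjz this.symm n
  rw [e3, mul_comm, zpow_mul, e3, ← e2] at e4
  refine ⟨g⁻¹ * τ g, mul_inv_eq_iff_eq_mul.1 ?_, _, t3 g hg, by group⟩
  rw [show g⁻¹ * τ g * x * (g⁻¹ * τ g)⁻¹ = g⁻¹ * (τ g * x * (τ g)⁻¹) * g by group, e4]; group

namespace Tri
variable (h : Tri F k x y z t u α)
include h

theorem par (hw : Fx t α w) (e : x ^ a * u ^ b * w * y * (x ^ a * u ^ b * w)⁻¹ = x ^ j * y) (hj : Odd j) : Odd b := by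
  rw [mul_inv_rev, mul_assoc _ w, (h.fy hw).eq, mul_assoc, mul_assoc y, mul_inv_cancel_left, ← mul_assoc, h.Ty,
    mul_left_inj, ord_iff h.hyp.ox] at e
  have := h.hyp.qg.ev e
  rw [Int.odd_iff] at *; omega

theorem fx_one : Fx t α 1 := ⟨one_mem _, h.map.homOn.map_one⟩

theorem nb (ss : s * s = 1) (hb : ¬ Big x y z s) :
    𝐂[s] ≤ 𝐂[t] ∧ ∃ a b : ℤ, ∃ w, Fx t α w ∧ s = x ^ a * u ^ b * w ∧ Odd b := by
  obtain ⟨e1, j, hj, e2⟩ := h.hyp.nbig ss hb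
  rcases h.all s with hs | hs
  · obtain ⟨a, b, w, hw, rfl⟩ := h.dec hs
    have hb := h.par hw e2 hj
    refine ⟨fun g hg => (h.all g).resolve_right fun hy => ?_, a, b, w, hw, rfl, hb⟩
    obtain ⟨c, d, v, hv, e⟩ := h.dec hy
    obtain ⟨_, ⟨i, rfl⟩, i1, i2⟩ := h.fs hv
    obtain ⟨_, ⟨j, rfl⟩, j1, j2⟩ := h.fs hw
    have vw := h.f1 (h.fx_mul (h.fx_inv hw) (h.fx_mul (h.fx_mul hv hw) (h.fx_inv hv))) (h.hyp.comm_x w v)
    have := mul_inv_eq_iff_eq_mul.2 (mem_cent1.1 hg)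
    rw [mul_inv_eq_iff_eq_mul.1 e, show ∀ p q : G, q * v * y * (p * w) * (q * v * y)⁻¹ = q * (v * (y * p * y⁻¹) * v⁻¹) *
      (v * (y * w * y⁻¹) * v⁻¹ * q⁻¹) from fun p q => by group, (h.fy hw).symm.eq, mul_inv_cancel_right,
      ← inv_mul_eq_one.1 vw, h.yT, h.cT i1 i2, h.tmul, h.tinv, mul_inv_eq_iff_eq_mul.1 (h.cT j1 j2 _ _), ← mul_assoc,
      h.tmul, mul_left_inj, h.teq] at this
    obtain ⟨n, hn⟩ := h.hyp.qg.ev this.1
    exact Int.not_even_iff_odd.2 hb ⟨4 * n + a - i * (b - a) + j * c, by linear_combination hn⟩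
  · obtain ⟨a, b, e⟩ := h.AT hs (mul_inv_eq_iff_eq_mul.1 (by
      rw [h.hyp.qg.yi, show s * (z * y) * x * (s * (z * y))⁻¹ = s * (z * (y * x * y⁻¹) * z⁻¹) * s⁻¹ by group, h.hyp.yx,
        (h.hyp.zs _).eq, mul_inv_cancel_right, ← conj_inv, e1, inv_inv]))
    obtain rfl := mul_inv_eq_iff_eq_mul.1 e
    have hb := h.par (a := a) (b := b) h.fx_one (by rw [← e2]; group) hj
    rw [show ∀ p : G, p * y * (p * y) = p * (y * p * y⁻¹) * (y * y) from fun p => by group, h.yT, h.tmul, h.hyp.yy,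
      h.hyp.qg.hz', ← mul_one (x ^ (2 ^ k : ℤ)), ← zpow_zero u, h.tmul, ← one_mul (u ^ (0 : ℤ)),
      ← zpow_zero x, h.teq] at ss
    have := h.hyp.qg.ev ss.2
    rw [Int.odd_iff] at hb; omega

theorem gen' (hE : ∀ P, ∀ σ : Perm G, F.IsMap P σ → z ∈ P → σ z = z → E.IsMap P σ) (hα : E.IsMap 𝐂[t] α) :
    F ≤ E := by
  have nz : Nice F E z z := ⟨1, F.isMap_one le_top, E.isMap_one le_top, rfl⟩
  have nt : Nice F E z t := ⟨α, h.map.isMap, hα, h.at'⟩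
  have np : ∀ {s v}, Pre F k x y z s v → Nice F E z s := fun p => by
    rcases h.pre_t p (h.all _) with rfl | rfl
    exacts [nt, .pull (h.azt.symm ▸ nt) h.map.isMap hα fun g hg => mem_cent1.2 (by
      simpa [← mul_assoc, h.hyp.qg.zz] using ((h.hyp.zs g).symm.mul_right (mem_cent1.1 hg)).eq)]
  have n1 : ∀ {s} {φ : Perm G}, F.IsMap 𝐂[s] φ → φ s = z → Nice F E z (φ z) → Nice F E z s := fun {s φ} p1 p2 n =>
    ⟨φ, p1, n.isMap hE p1 (h.hyp.zA s) h.hyp.zs, p2⟩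
  have nB : ∀ {s}, Zc F z s → Big x y z s → Nice F E z s := fun {s} hs hb => by
    rcases eq_or_ne s z with rfl | sz
    · exact nz
    obtain ⟨φ, p1, p2⟩ := h.hyp.phi hs
    obtain ⟨ψ, p3, p4⟩ := h.hyp.phi (zc_z.map p1 (h.hyp.zA s))
    have := h.hyp.big p1 p2 sz hb
    exact n1 p1 p2 (n1 p3 p4 (np (h.hyp.pre p3 p4 this.1 this.2)))
  have n2 : ∀ {s}, Zc F z s → ¬ Big x y z s → Zc F z (α s) ∧ (Nice F E z (α s) → Nice F E z s) := fun hs hb =>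
    have := (h.nb (h.hyp.tt hs).1 hb).1
    ⟨hs.map h.map.isMap (this (self_mem_cent1 _)), fun n => n.pull h.map.isMap hα this⟩
  have n3 : ∀ {s}, Zc F z s → Nice F E z s := fun {s} hs => by
    by_contra hn
    have b1 : ¬ Big x y z s := fun b => hn (nB hs b)
    obtain ⟨z2, m2⟩ := n2 hs b1
    have b2 : ¬ Big x y z (α s) := fun b => hn (m2 (nB z2 b))
    obtain ⟨z3, m3⟩ := n2 z2 b2
    obtain ⟨-, j, hj, e3⟩ := h.hyp.nbig (h.hyp.tt z3).1 fun b => hn (m2 (m3 (nB z3 b)))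
    obtain ⟨-, i, hi, e2⟩ := h.hyp.nbig (h.hyp.tt z2).1 b2
    obtain ⟨-, a, b, w, hw, rfl, hb⟩ := h.nb (h.hyp.tt hs).1 b1
    simp only [h.map.homOn (h.TA _ _) hw.1, h.aT, hw.2] at e2 e3
    have := h.par hw e2 hi
    have := h.par hw e3 hj
    rw [Int.odd_iff] at *; omega
  exact h.hyp.sat.le_of_centric h.hyp.pS fun P σ h1 h2 =>
    have hz : z ∈ P := h1.centralizerIn_le ⟨trivial, mem_centralizer_iff.2 fun g _ => (h.hyp.zs g).symm⟩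
    (n3 (zc_z.map h2.isMap hz)).isMap hE h2.isMap hz h.hyp.zs

theorem foc_top {M : Subgroup G} (hM : ∀ g s, g⁻¹ * (s * g * s⁻¹) ∈ M)
    (h1 : ∀ P, ∀ σ : Perm G, F.IsMap P σ → z ∈ P → σ z = z → ∀ g ∈ P, g⁻¹ * σ g ∈ M)
    (h2 : ∀ g ∈ 𝐂[t], g⁻¹ * α g ∈ M) (g : G) : g ∈ M := by
  have := h.gen' (E := (modData M hM).toSystem) (fun P σ p1 p2 p3 => (PermData.isMap_toSystem _).2
    ⟨p1.homOn, h1 P σ p1 p2 p3⟩) ((PermData.isMap_toSystem _).2 ⟨h.map.homOn, h2⟩)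
  refine (h.hyp.foc.trans (focalSubgroup_le_iff.2 fun P f hf g hg => ?_)) trivial
  obtain ⟨σ, p1, p2⟩ := (PermData.isMap_toSystem_fun _).1 (le_iff_isMap.1 this P f hf)
  exact p2 g hg ▸ p1.2 g hg

theorem pm (s : G) : s * x * s⁻¹ = x ∨ s * x * s⁻¹ = x⁻¹ := by
  let M : Subgroup G :=
    { carrier := {s | s * x * s⁻¹ = x ∨ s * x * s⁻¹ = x⁻¹}
      one_mem' := .inl (by simp)
      mul_mem' := fun {a b} ha hb => by
        rw [Set.mem_setOf_eq, show a * b * x * (a * b)⁻¹ = a * (b * x * b⁻¹) * a⁻¹ by group]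
        rcases hb with e | e <;> rcases ha with e' | e' <;> simp only [e, e', ← conj_inv, inv_inv, true_or, or_true]
      inv_mem' := fun {a} ha => by
        have : a⁻¹ * (a * x * a⁻¹) * a⁻¹⁻¹ = x := by group
        rcases ha with e | e <;> rw [e] at this
        exacts [.inl this, .inr (by rw [← conj_inv, inv_eq_iff_eq_inv] at this; exact this)] }
  have c : ∀ g, Commute g x → g ∈ M := fun g hg => .inl (mul_inv_eq_iff_eq_mul.2 hg)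
  refine h.foc_top (M := M) (fun g s => c _ (h.hyp.comm_x g s)) (fun P σ p1 p2 p3 g hg => ?_) (fun g hg => ?_) s
  · obtain ⟨d, h1, r, h2, e⟩ := h.hyp.fix_x p1 p2 p3 hg
    exact e ▸ mul_mem (c d h1) ((closure_le M).2 (by
      rintro _ (rfl | rfl); exacts [c _ (Commute.refl _), .inr h.hyp.yx]) h2)
  · obtain ⟨a, b, e⟩ := h.triv g hg
    rw [e, inv_mul_cancel_left]; exact c _ (h.tx' a b)

theorem std (hw : Fx t α w) (wx : w * x * w⁻¹ = x⁻¹) : Std F k x y z u w α := by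
  have wu : w * u * w⁻¹ = u⁻¹ := by simpa using h.scal (i := -1) hw.1 (by simpa using wx)
  have c : ∀ v, Fx t α v → v * x * v⁻¹ = x⁻¹ → v * w = 1 := fun v hv e => h.f1 (h.fx_mul hv hw)
    (mul_inv_eq_iff_eq_mul.1 (by
      rw [show v * w * x * (v * w)⁻¹ = v * (w * x * w⁻¹) * v⁻¹ by group, wx, ← conj_inv, e, inv_inv]))
  have A : ∀ g ∈ 𝐂[t], ∃ a b : ℤ, g = x ^ a * u ^ b ∨ g = x ^ a * u ^ b * w := fun g hg => by
    obtain ⟨a, b, v, hv, rfl⟩ := h.dec hg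
    rcases h.pm v with e | e
    exacts [⟨a, b, .inl (by rw [h.f1 hv (mul_inv_eq_iff_eq_mul.1 e), mul_one])⟩,
      ⟨a, b, .inr (by rw [mul_right_cancel ((c v hv e).trans (c w hw wx).symm)])⟩]
  have eA : closure {x, u, w} = 𝐂[t] := by
    refine le_antisymm ((closure_le _).2 ?_) fun g hg => ?_
    · rintro _ (rfl | rfl | rfl); exacts [h.xA, h.uA, hw.1]
    · have m : ∀ a b : ℤ, x ^ a * u ^ b ∈ closure ({x, u, w} : Set G) := fun a b =>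
        mul_mem (zpow_mem (subset_closure (by simp)) a) (zpow_mem (subset_closure (by simp)) b)
      obtain ⟨a, b, rfl | rfl⟩ := A g hg
      exacts [m a b, mul_mem (m a b) (subset_closure (by simp))]
  refine ⟨h.hyp, h.ou, h.ux, fun _ _ => h.ind, h.yu, c w hw wx, wx, wu, h.fy hw, fun g => ?_, eA ▸ h.map.isMap, h.au,
    h.ax, hw.2, fun E h1 h2 => h.gen' h1 (eA ▸ h2)⟩
  rcases h.all g with hg | hg <;> obtain ⟨a, b, e | e⟩ := A _ hg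
  exacts [⟨a, b, .inl e⟩, ⟨a, b, .inr (.inl e)⟩, ⟨a, b, .inr (.inr (.inl (by rw [← e]; simp)))⟩,
    ⟨a, b, .inr (.inr (.inr (by rw [← e]; simp)))⟩]

theorem wr (A : ∀ g ∈ 𝐂[t], ∃ a b : ℤ, g = x ^ a * u ^ b) : IsWreathed (⊤ : Subgroup G) := by
  have ny : y ∉ 𝐂[t] := fun e => h.hyp.ny h.inn.zc h.tz h.tx (Eq.symm (mem_cent1.1 e))
  have yA : ∀ {g}, g ∈ 𝐂[t] → y * g * y⁻¹ ∈ 𝐂[t] := h.yA.mem
  have e : y * u * y⁻¹ = x ^ (1 : ℤ) * u ^ (1 : ℤ) := by simpa using h.yu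
  refine ⟨k + 1, by have := h.hyp.k2; omega, ?_, ⟨u, trivial⟩, ⟨x * u, trivial⟩, ⟨t * y, trivial⟩, ?_, ?_, ?_, ?_, ?_⟩
  · have : 𝐂[t] = zpowers x ⊔ zpowers u := le_antisymm (fun g hg => by
      obtain ⟨a, b, rfl⟩ := A g hg
      exact mul_mem (mem_sup_left (zpow_mem_zpowers _ _)) (mem_sup_right (zpow_mem_zpowers _ _)))
      (sup_le (zpowers_le.2 h.xA) (zpowers_le.2 h.uA))
    rw [card_top, ← card_mul_index 𝐂[t], index_eq_two_iff.2 ⟨y⁻¹, fun g => (h.all g).elim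
      (fun m => .inr ⟨m, fun m' => ny (by simpa using mul_mem (inv_mem m') m)⟩)
      fun m => .inl ⟨m, fun m' => ny (by simpa using mul_mem (inv_mem m) m')⟩⟩, this,
      H1.card_sup_of_disjoint ((zpowers_le.2 (mem_cz.2 (mem_cent1.2 h.ux.symm))).trans (centralizer_le_normalizer _))
        (disjoint_def.2 fun ⟨a, e⟩ ⟨b, e'⟩ => e ▸ h.ind (e.trans e'.symm)), Nat.card_zpowers, Nat.card_zpowers,
      h.hyp.ox, h.ou]
    ring
  · rw [← h.ou, ← orderOf_coe]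
  · exact Subtype.ext (h.ux.mul_right (Commute.refl u))
  · refine eq_bot_iff.2 fun g ⟨⟨a, e⟩, b, e'⟩ => Subtype.ext ?_
    have e1 : x ^ (0 : ℤ) * u ^ a = x ^ b * u ^ b := by
      simpa [h.ux.symm.mul_zpow] using congrArg Subtype.val (e.trans e'.symm)
    rw [h.teq] at e1
    exact (congrArg Subtype.val e).symm.trans ((ord_one h.ou).2 (by simpa using e1.2.sub e1.1))
  · refine orderOf_eq_prime (Subtype.ext ?_) fun e => ny ?_
    · change (t * y) ^ 2 = 1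
      rw [sq, show t * y * (t * y) = t * (y * t * y⁻¹) * (y * y) by group, h.yt, h.hyp.yy, (h.hyp.zs t).eq,
        ← mul_assoc, h.tt, one_mul, h.hyp.qg.zz]
    · exact eq_inv_of_mul_eq_one_right (congrArg Subtype.val e) ▸ inv_mem (self_mem_cent1 t)
  · refine Subtype.ext ?_
    change t * y * u * (t * y)⁻¹ = x * u
    rw [show t * y * u * (t * y)⁻¹ = t * (y * u * y⁻¹) * t⁻¹ by group, h.yu, ← mem_cent1.1 (mul_mem h.xA h.uA),
      mul_inv_cancel_right]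

end Tri

instance instBIG : BIG := ⟨fun {G} _ _ {F k x y z} h hb => by
  obtain ⟨t, u, α, h⟩ := h.tri hb
  by_cases hw : ∃ w, Fx t α w ∧ w * x * w⁻¹ = x⁻¹
  · exact .inr (let ⟨w, h1, h2⟩ := hw; ⟨u, w, α, h.std h1 h2⟩)
  have A : ∀ g ∈ 𝐂[t], ∃ a b : ℤ, g = x ^ a * u ^ b := fun g hg => by
    obtain ⟨a, b, v, hv, rfl⟩ := h.dec hg
    exact ⟨a, b, by rw [h.f1 hv (mul_inv_eq_iff_eq_mul.1 ((h.pm v).resolve_right fun e => hw ⟨v, hv, e⟩)), mul_one]⟩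
  have B : ∀ g, Commute g x → ∃ a b : ℤ, g = x ^ a * u ^ b := fun g c => (h.all g).elim (A g) fun hg => by
    obtain ⟨a, b, e⟩ := A _ hg
    rw [mul_inv_eq_iff_eq_mul.1 e] at c
    exact absurd (inv_mul_cancel_left _ y ▸ (h.tx' a b).inv_left.mul_left c).symm (by simpa using h.hyp.qg.nc 0)
  refine .inl ⟨h.wr A, fun a b h1 _ h2 _ => ?_⟩
  obtain ⟨c, d, rfl⟩ := B a h1
  obtain ⟨e, f, rfl⟩ := B b h2
  exact ((h.tx' c d).zpow_right e).mul_right ((h.tu' c d).zpow_right f)⟩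

end Cfsg.Agent.Wz
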