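import Cfsg.Agent.Wz.J
import Cfsg.Agent.H8.PPow
import Cfsg.Agent.H9.NormSys

/-! `S5176` from the slices `QD`, `BIG`, `UNI`, `G2T` (see notes/wz.md). -/

set_option autoImplicit false

namespace Cfsg.Agent.Wz

open Subgroup Equiv Cfsg.Fus Cfsg.Agent.FT Cfsg.FusionSystem

universe u

section Gen

variable {Ω Ω' : Type*} [Group Ω] [Group Ω'] {S U R : Subgroup Ω} {S' U' : Subgroup Ω'} {θ : Ω → Ω'} {θ' : Ω' → Ω}
  {F : FusionSystem S} {F' : FusionSystem S'} {k : ℕ} {x y z : Ω}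

theorem Hyp.transp (h : Hyp F k x y z) (t : L.Transp U U' θ θ' F F') : Hyp F' k (θ x) (θ y) (θ z) := by
  have p := t.restrict.piso
  have hx := h.xS
  have hy := h.yS
  have hz : z ∈ S := h.hz ▸ pow_mem hx _
  have hR : closure {x, y} ≤ S := (closure_le _).2 (by rintro _ (rfl | rfl); exacts [hx, hy])
  have eR : img θ (closure {x, y}) = closure {θ x, θ y} := by
    rw [p.img_closure (subset_closure.trans hR), Set.image_pair]
  have cm : ∀ {a : Ω'} {b : Ω}, a ∈ S' → b ∈ S → Commute a (θ b) → Commute (θ' a) b := fun ha hb c => by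
    have := congrArg θ' c.eq
    rwa [p.hom' ha (p.mem hb), p.hom' (p.mem hb) ha, p.left hb] at this
  have zm : ∀ {P : Subgroup Ω'}, θ z ∈ P → z ∈ img θ' P := fun hP => p.left hz ▸ mem_img_of_mem θ' hP
  refine ⟨t.isPGroup h.pS, t.isSaturated h.sat, h.k2, p.mem hx, p.mem hy, (p.orderOf_eq hx).trans h.ox,
    by rw [h.hz, p.hom.map_pow hx], by rw [← p.hom.map_conj hy hx, h.yx, p.hom.map_inv hx],
    by rw [← p.hom hy hy, h.yy], fun g hg => ?_, fun P f hf zP e r rP rR => ?_, fun P f hf zP c1 c2 => ?_,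
    fun w ww w1 c1 c2 P f hf wP zP e => ?_, ?_⟩
  · rw [← eR, ← p.right hg]
    exact p.mem_normalizer hR (p.mem' hg) (h.nrm (p.mem' hg))
  · have := h.sc _ _ (t.map' hf) (zm zP) ((congrArg θ' e).trans (p.left hz)) (θ' r) (mem_img_of_mem θ' rP)
      (p.inv_mem hR (eR ▸ rR))
    rw [Function.comp_apply, Function.comp_apply, p.right (hf.le rP)] at this
    exact eR ▸ (p.mem_img_iff hR).2 ⟨hf.mem rP, this⟩
  · exact (p.right (hf.mem zP)).symm.trans
      (congrArg θ (h.wc _ _ (t.map' hf) (zm zP) (cm (hf.mem zP) hx c1) (cm (hf.mem zP) hy c2)))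
  · have wS := hf.le wP
    refine (p.right (hf.mem zP)).symm.trans (congrArg θ (h.iso (θ' w) ?_ (fun e' => w1 ?_) (cm wS hx c1) (cm wS hy c2)
      _ _ (t.map' hf) (mem_img_of_mem θ' wP) (zm zP) ?_))
    · rw [← p.hom' wS wS, ww, p.hom'.map_one]
    · rw [← p.right wS, e', p.hom.map_one]
    · rw [Function.comp_apply, Function.comp_apply, p.right wS, e]
  · rw [← t.img_focal, ← t.img_eq]
    exact (p.img_le_img_iff le_rfl F.focalSubgroup_le).2 h.foc

theorem quat (hk : 2 ≤ k) (e : R ≃* QuaternionGroup (2 ^ k)) : ∃ x y z : Ω, closure {x, y} = R ∧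
    orderOf x = 2 ^ (k + 1) ∧ z = x ^ 2 ^ k ∧ y * x * y⁻¹ = x⁻¹ ∧ y * y = z ∧ z * z = 1 ∧ z ≠ 1 ∧ x * x ≠ 1 ∧
      (∀ r ∈ R, Commute z r) ∧ ∀ r ∈ R, r * r = 1 → r = 1 ∨ r = z := by
  have q : QG k (QuaternionGroup.a 1 : QuaternionGroup (2 ^ k)) (QuaternionGroup.xa 0)
      (QuaternionGroup.a ((2 ^ k : ℕ) : ZMod (2 * 2 ^ k))) :=
    ⟨hk, by rw [QuaternionGroup.orderOf_a_one, pow_succ'], (QuaternionGroup.a_one_pow _).symm, by
      rw [mul_inv_eq_iff_eq_mul, eq_inv_mul_iff_mul_eq]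
      simp, by simp⟩
  have tp : ∀ g, g ∈ closure {(QuaternionGroup.a 1 : QuaternionGroup (2 ^ k)), QuaternionGroup.xa 0} := by
    intro g
    have ha : ∀ i, QuaternionGroup.a i ∈
        closure {(QuaternionGroup.a 1 : QuaternionGroup (2 ^ k)), QuaternionGroup.xa 0} := fun i => by
      rw [← ZMod.natCast_zmod_val i, ← QuaternionGroup.a_one_pow]
      exact pow_mem q.xm1 _
    rcases g with i | i
    exacts [ha i, by simpa using mul_mem q.ym1 (ha i)]
  let φ := R.subtype.comp e.symm.toMonoidHom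
  have hi : Function.Injective φ := R.subtype_injective.comp e.symm.injective
  have hs : ∀ r ∈ R, ∃ g, φ g = r := fun r hr => ⟨e ⟨r, hr⟩, by simp [φ]⟩
  refine ⟨φ (QuaternionGroup.a 1), φ (QuaternionGroup.xa 0), φ (QuaternionGroup.a ((2 ^ k : ℕ) : ZMod (2 * 2 ^ k))),
    le_antisymm ((closure_le _).2 ?_) fun r hr => ?_, (orderOf_injective φ hi _).trans q.ox, by rw [q.hz, map_pow],
    by rw [← map_inv, ← map_inv, ← map_mul, ← map_mul, q.yx], by rw [← map_mul, q.yy], by rw [← map_mul, q.zz, map_one],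
    fun h => q.z1 (hi (h.trans (map_one φ).symm)), fun h => q.x2 (hi (by rw [map_mul, h, map_one])), fun r hr => ?_,
    fun r hr h => ?_⟩
  · rintro _ (rfl | rfl) <;> exact Subtype.property _
  · obtain ⟨g, rfl⟩ := hs r hr
    rw [← Set.image_pair, ← MonoidHom.map_closure]
    exact mem_map_of_mem φ (tp g)
  · obtain ⟨g, rfl⟩ := hs r hr
    exact (q.zc (tp g)).map φ
  · obtain ⟨g, rfl⟩ := hs r hr
    exact (q.invol (tp g) (hi (by rw [map_mul, h, map_one]))).imp (fun h => by rw [h, map_one]) fun h => by rw [h]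

theorem exists_hyp [Finite S] (hS : IsPGroup 2 S) (hF : F.IsSimple 2) (hk : 2 ≤ k) (e : R ≃* QuaternionGroup (2 ^ k))
    (hW : F.WeaklyClosed R) (hC : ∀ y ∈ centralizerIn S R, orderOf y = 2 →
      ∀ C : FusionSystem (centralizerIn S (zpowers y)), F.IsCentralizerSystem (zpowers y) C → C.StronglyClosed R) :
    ∃ x y z, Hyp F k x y z := by
  obtain ⟨x, y, z, rfl, ox, hz, yx, yy, zz, z1, x2, zc, inv⟩ := quat hk e
  have xR : x ∈ closure {x, y} := subset_closure (by simp)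
  have yR : y ∈ closure {x, y} := subset_closure (by simp)
  have zR : z ∈ closure {x, y} := yy ▸ mul_mem yR yR
  have cR : ∀ {w}, Commute w x → Commute w y → ∀ r ∈ closure {x, y}, r * w = w * r := fun {w} c1 c2 r hr =>
    (mem_centralizer_singleton_iff.1 (((closure_le (centralizer {w})).2 (by
      rintro _ (rfl | rfl); exacts [mem_centralizer_singleton_iff.2 c1.eq.symm,
        mem_centralizer_singleton_iff.2 c2.eq.symm])) hr))
  have fz : ∀ {P f}, F.IsMap P f → z ∈ P → f z ∈ closure {x, y} → f z = z := fun {P f} hf zP h =>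
    (inv _ h (by rw [← hf.homOn zP zP, zz, hf.homOn.map_one])).resolve_left fun e =>
      z1 (hf.injOn zP (one_mem P) (e.trans hf.homOn.map_one.symm))
  have sc : ∀ w, w * w = 1 → w ≠ 1 → Commute w x → Commute w y → ∀ P f, F.IsMap P f → w ∈ P → f w = w →
      ∀ r ∈ P, r ∈ closure {x, y} → f r ∈ closure {x, y} := fun w ww w1 c1 c2 P f hf wP e r rP rR => by
    have hc := isCentralizerSystem_centSys9 F (zpowers w) (zpowers_le.2 (hf.le wP))
    have h := hC w ⟨hf.le wP, cR c1 c2⟩ (orderOf_eq_prime (by rw [sq, ww]) w1) _ hc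
    refine h.mem ((isCentralizerSystem_iff.1 hc (zpowers r) f).2 ⟨(zpowers_le.2 rR).trans h.le, f,
      hf.mono (sup_le (zpowers_le.2 rP) (zpowers_le.2 wP)), fun _ _ => rfl, ?_⟩) (mem_zpowers r) rR
    rintro _ ⟨n, rfl⟩
    rw [hf.homOn.map_zpow wP, e]
  refine ⟨x, y, z, hS, hF.1, hk, hW.le xR, hW.le yR, ox, hz, yx, yy, hW.le_normalizer,
    sc z zz z1 (zc x xR) (zc y yR), fun P f hf zP c1 c2 => ?_,
    fun w ww w1 c1 c2 P f hf wP zP e => fz hf zP (sc w ww w1 c1 c2 P f hf wP e z zP zR), ?_⟩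
  · have zs : ∀ g ∈ S, g * z * g⁻¹ = z := fun g hg =>
      fz (F.isMap_cj le_rfl hg) (hW.le zR) (conj_mem_of_mem_normalizer (hW.le_normalizer hg) zR)
    have fc : F.IsFullyCentralized (zpowers z) := ⟨zpowers_le.2 (hW.le zR), fun Q _ => card_le_of_le fun g hg =>
      ⟨hg.1, by rintro _ ⟨n, rfl⟩; exact (Commute.zpow_left (mul_inv_eq_iff_eq_mul.1 (zs g hg.1)).symm n).eq⟩⟩
    obtain ⟨σ, h1, h2⟩ := (hf.mono (zpowers_le.2 zP)).exists_perm
    obtain ⟨τ, h3, h4⟩ := (fc.isReceptive hF.1 hS).exists_ext_centralizer h1.iso.symm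
    have h5 : σ z ∈ img σ (zpowers z) := mem_img_of_mem σ (mem_zpowers z)
    have h6 : closure {x, y} ≤ img σ (zpowers z) ⊔ centralizerIn S (img σ (zpowers z)) := fun r hr =>
      mem_sup_right ⟨hW.le hr, by
        rw [h1.homOn.img_zpowers, h2 z (mem_zpowers z)]
        rintro _ ⟨n, rfl⟩
        exact (Commute.zpow_left (cR c1 c2 r hr).symm n).eq⟩
    have h7 := fz h3 (h6 zR) (((hW.iso h3 h6).mem_iff z).2 zR)
    rw [← h2 z (mem_zpowers z)]
    exact τ.injective ((h4 _ h5).trans (by simp [h7]))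
  · have hn : S ≤ normalizer (F.focalSubgroup : Set Ω) := le_normalizer_of_conj_mem9 fun g hg a ha => by
      simpa using mul_mem ha ((F.isMap_cj le_rfl hg).inv_mul_mem_focal (F.focalSubgroup_le ha))
    obtain ⟨E, h1, h2⟩ := H8.exists_pPowerIndex hF.1 hS F.focalSubgroup_le (H8.hyp_le_focal F 2)
    refine ((hF.2.2 _ E (H8.isNormalIn_of_hasPPowerIndexIn hF.1 hS h1 h2 hn)).resolve_left fun e => x2 ?_).1.ge
    have := e.le ((F.isMap_cj le_rfl (hW.le yR)).inv_mul_mem_focal (hW.le xR))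
    rwa [mem_bot, cj_apply, yx, ← mul_inv_rev, inv_eq_one] at this

theorem exists_top (F : FusionSystem S) : ∃ (θ : Ω → S) (F' : FusionSystem (⊤ : Subgroup S)),
    L.Transp S ⊤ θ (fun x : S => (x : Ω)) F F' :=
  let ⟨F', t⟩ := (L.pIso_subtype S).symm.exists_transp le_rfl F (L.pIso_subtype S).symm.img_self
  ⟨_, F', t⟩

end Gen

section Top

variable {G : Type u} [Group G] [Finite G] {F : FusionSystem (⊤ : Subgroup G)} {k : ℕ} {x y z : G}

theorem Hyp.moved (h : Hyp F k x y z) (hF : F.IsSimple 2) : ∃ t, Zc F z t ∧ t ≠ z := by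
  by_contra! hz
  have hc := h.sat.isCentral_of_fix h.pS (Q := zpowers z) le_top fun P σ hσ g hg hg' => by
    rcases (H6.mem_zpowers_of_mul_self h.qg.zz).1 hg' with rfl | rfl
    exacts [hσ.homOn.map_one, hz _ (zc_z.map hσ hg)]
  rcases hF.2.2 _ _ (hc.isNormal.inner_isNormalIn h.sat h.pS) with e | ⟨e, -⟩
  · exact h.qg.z1 (zpowers_eq_bot.1 e)
  · rcases (H6.mem_zpowers_of_mul_self h.qg.zz).1 (e.ge (mem_top x)) with e | e
    exacts [h.qg.x2 (by rw [e, one_mul]), h.qg.x2 (by rw [e, ← e, e]; exact h.qg.zz)]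

theorem g2_std [G2T] [BIG.{0}] (hk : 2 ≤ k) : ∃ (K : Type) (_ : Field K) (_ : Fintype K), Odd (Fintype.card K) ∧
    ∃ (P : Subgroup (Lie.G2 K)) (_ : Finite P) (E : FusionSystem (⊤ : Subgroup P)) (x y z u w : P) (α : Perm P),
      Std E k x y z u w α ∧ H6.RealBy E (Lie.G2 K) := by
  obtain ⟨K, _, _, hK, P, x, y, z, h, ⟨g, g1, g2, g3⟩, a, ha, b, hb, c1, c2, c3, c4, c5⟩ := G2T.out k hk
  obtain ⟨θ, E, t⟩ := exists_top (groupFusionSystem (P : Subgroup (Lie.G2 K)))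
  have h' := h.transp t
  have p := t.piso
  have zP : z ∈ (P : Subgroup (Lie.G2 K)) := h.hz ▸ pow_mem h.xS _
  have cm : ∀ {a b : Lie.G2 K}, a ∈ (P : Subgroup (Lie.G2 K)) → b ∈ (P : Subgroup (Lie.G2 K)) →
      (Commute (θ a) (θ b) ↔ Commute a b) := fun ha hb => by
    rw [Commute, SemiconjBy, ← p.hom ha hb, ← p.hom hb ha, p.injOn.eq_iff (mul_mem ha hb) (mul_mem hb ha)]; rfl
  have hm : (groupFusionSystem (P : Subgroup (Lie.G2 K))).IsMap (zpowers z) (cj g) :=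
    isMap_group_cj (zpowers_le.2 zP) (by rintro _ ⟨n, rfl⟩; rw [← conj_zpow]; exact zpow_mem g1 n)
  obtain ⟨σ, s1, s2⟩ := (t.map hm).exists_perm
  have s3 : θ z ∈ img θ (zpowers z) := mem_img_of_mem θ (mem_zpowers z)
  have s4 : σ (θ z) = θ (g * z * g⁻¹) := (s2 _ s3).trans (congrArg (fun v => θ (g * v * g⁻¹)) (p.left zP))
  refine ⟨K, inferInstance, inferInstance, hK, P, inferInstance, E, θ x, θ y, θ z, ?_⟩
  rcases BIG.out h' ⟨_, zc_z.map s1 s3, fun e => g2 (p.injOn g1 zP (s4 ▸ e)), _, h'.qg.xm (2 ^ (k - 1)), by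
    rw [h'.qg.hz', ← zpow_add, ← two_mul, ← pow_succ', Nat.sub_add_cancel (by omega)],
    (s4 ▸ (cm g1 h.xS).2 g3).symm.zpow_left _⟩ with ⟨-, e⟩ | ⟨u, w, α, e⟩
  · exact absurd ((cm ha hb).1 (e _ _ ((cm ha h.xS).2 c1) ((cm ha h.yS).2 c2) ((cm hb h.xS).2 c3)
      ((cm hb h.yS).2 c4))) c5
  · exact ⟨u, w, α, e, (H6.realBy_group P).of_transp t.symm⟩

end Top

theorem fin [QD.{u}] [BIG.{u}] [BIG.{0}] [UNI.{u, 0}] [G2T] {Ω : Type u} [Group Ω] {S : Subgroup Ω} [Finite S]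
    (hS : IsPGroup 2 S) (F : FusionSystem S) (hF : F.IsSimple 2)
    (R : Subgroup Ω) (k : ℕ) (hk : 2 ≤ k) (eR : ↥R ≃* QuaternionGroup (2 ^ k)) (hW : F.WeaklyClosed R)
    (hC : ∀ y ∈ centralizerIn S R, orderOf y = 2 → ∀ C : FusionSystem (centralizerIn S (zpowers y)),
      F.IsCentralizerSystem (zpowers y) C → C.StronglyClosed R) :
    (∃ (K : Type) (_ : Field K) (_ : Fintype K), Odd (Fintype.card K) ∧
      (H6.RealBy F (Matrix.ProjectiveSpecialLinearGroup (Fin 3) K) ∨ H6.RealBy F (Lie.G2 K))) ∨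
      ∃ P : Subgroup Ω, P ≤ S ∧ IsQuasiDihedral P ∧ F.StronglyClosed P := by
  obtain ⟨x, y, z, h⟩ := exists_hyp hS hF hk eR hW hC
  obtain ⟨θ, E, t⟩ := exists_top F
  have h' := h.transp t
  by_cases hb : ∃ s, Zc E (θ z) s ∧ s ≠ θ z ∧ Big (θ x) (θ y) (θ z) s
  · left
    rcases BIG.out h' hb with ⟨e, -⟩ | ⟨u, w, α, e⟩
    · obtain ⟨m, ⟨T⟩⟩ := H6.tab_of_wreathed e
      obtain ⟨q, _, h1, h2⟩ := H6.simple_w T (t.isSimple hF)
      exact ⟨ZMod (q + 1), inferInstance, inferInstance, by rw [H6.card_zmod_succ, Nat.odd_iff]; omega,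
        .inl (h2.of_transp t)⟩
    · obtain ⟨K, _, _, hK, P, _, D, x', y', z', u', w', α', h1, h2⟩ := g2_std hk
      obtain ⟨η, η', t'⟩ := UNI.out e h1
      exact ⟨K, _, _, hK, .inr ((h2.of_transp t').of_transp t)⟩
  · obtain ⟨P, h1, h2⟩ := QD.out h' (h'.moved (t.isSimple hF)) fun s h1 h2 h3 => hb ⟨s, h1, h2, h3⟩
    exact .inr ⟨_, t.img_le' le_top, H6.isQuasiDihedral_of_equiv h1 (t.piso.symm.equiv le_top),
      t.symm.stronglyClosed h2⟩

end Cfsg.Agent.Wz
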