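import Cfsg.Agent.Wz.G1
import Cfsg.Agent.H6.PSL3
import Cfsg.Agent.FT.Basic4

/-! `G₂(q)` satisfies the hypotheses of `S5176`. -/

set_option autoImplicit false
set_option linter.style.haveILetI false

namespace Cfsg.Agent.Wz.G

open Matrix Cfsg.Lie Cfsg.Agent.H3 Subgroup Cfsg.Agent.L Cfsg.Agent.FT
open scoped MatrixGroups

variable {K : Type} [Field K]

def ds : Kˣ →* SL(2, K) := MonoidHom.mk' (fun u => sl2 ((u⁻¹ : Kˣ) : K) 0 0 u (by simp)) fun a b => by
  rw [sl2_mul, sl2_eq_iff]; simp [mul_comm]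

def yy (K : Type) [Field K] : SL(2, K) := sl2 0 1 (-1) 0 (by simp)

theorem ds_val (u : Kˣ) : (ds u : Mt K) = !![(u : K)⁻¹, 0; 0, u] := by rw [← Units.val_inv_eq_inv_val]; rfl
theorem yy_val : (yy K : Mt K) = !![0, 1; -1, 0] := rfl
theorem ds_inj : Function.Injective (ds : Kˣ → SL(2, K)) := fun _ _ e =>
  Units.ext (congrArg (fun x : SL(2, K) => x.1 1 1) e)
theorem ds_neg : (ds (-1) : SL(2, K)) = -1 := by
  ext i j; fin_cases i <;> fin_cases j <;> simp [ds_val]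
theorem yy_sq : yy K * yy K = -1 := by rw [yy, sl2_mul, sl2_neg_one, sl2_eq_iff]; simp
theorem yy_conj (u : Kˣ) : yy K * ds u * (yy K)⁻¹ = (ds u)⁻¹ := mul_inv_eq_of_eq_mul (by
  rw [← map_inv]; ext i j; fin_cases i <;> fin_cases j <;> simp [ds_val, yy_val, -map_inv])
theorem yy_ne (u : Kˣ) : ds u ≠ yy K := fun e => zero_ne_one (congrArg (fun x : SL(2, K) => x.1 0 1) e)
theorem ncomm {u : Kˣ} (hu : u ^ 2 ≠ 1) : ¬ Commute (ds u) (yy K) := fun h => hu (ds_inj (by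
  have := yy_conj u
  rw [← h.eq, mul_inv_cancel_right] at this
  rw [sq, map_mul, map_one, mul_eq_one_iff_eq_inv.2 this]))

theorem inv_eq (h2 : (2 : K) ≠ 0) {u : Kˣ} (hu : u ^ 2 ≠ 1) {w : G2 K} (hw : w * w = 1) (w1 : w ≠ 1)
    (hx : Commute w (i1 (ds u))) (hy : Commute w (i1 (yy K))) : w = i1 (-1) := by
  obtain ⟨a, b, rfl⟩ := cent h2 (show Commute w (i1 (-1)) by
    rw [← yy_sq, map_mul]; exact hy.mul_right hy)
  have key : ∀ X : SL(2, K), Commute (dl a * i1 b) (i1 X) → a.1 * b.1 * X.1 = X.1 * (a.1 * b.1) :=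
    fun X h => by
      have := congrArg (fun g => (ac g (0, 1)).2 * a.1) h.eq
      simpa only [ac_mul, ac_i1, ac_dl, mul_assoc, Units.inv_mul, mul_one] using this
  obtain ⟨c, hc⟩ : ∃ c : K, a.1 * b.1 = c • 1 := by
    have h3 := key _ hx
    have h4 := key _ hy
    rw [ds_val] at h3
    rw [yy_val] at h4
    generalize a.1 * b.1 = M at h3 h4
    have e1 := congrFun (congrFun h3 0) 1
    have e2 := congrFun (congrFun h4 0) 0
    have e3 := congrFun (congrFun h4 0) 1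
    simp [mul_apply] at e1 e2 e3
    have e4 : M 0 1 = 0 := by
      by_contra h
      field_simp at e1
      exact hu (Units.ext (by simpa using e1))
    refine ⟨M 0 0, ?_⟩
    ext i j; fin_cases i <;> fin_cases j <;> simp [e4, ← e2, e3]
  have e1 : a.1 = c • b⁻¹.1 := by
    rw [← one_mul b⁻¹.1, ← smul_mul_assoc, ← hc, mul_assoc,
      show b.1 * b⁻¹.1 = 1 from congrArg Subtype.val (mul_inv_cancel b), mul_one]
  have e2 : b.1 = c • a⁻¹.1 := by
    rw [← mul_one a⁻¹.1, ← mul_smul_comm, ← hc, Units.inv_mul_cancel_left]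
  have e3 : dl a * i1 b = i2 b⁻¹ := ac_inj fun x => by
    rw [ac_mul, ac_i1, ac_dl, ac_i2, inv_inv, ← mul_assoc, ← mul_assoc a.1, ← mul_assoc a.1, hc,
      mul_assoc a.1]
    nth_rw 1 [e1]
    simp only [e2, smul_mul_assoc, mul_smul_comm, one_mul]
  rw [e3] at hw w1 ⊢
  rcases sl2_sq_eq_one h2 b⁻¹ (i2_inj (by rw [sq, map_mul, hw, map_one])) with h | h
  · exact (w1 (by rw [h, map_one])).elim
  · rw [h, i2_neg]

theorem mem_comm (h2 : (2 : K) ≠ 0) {u : Kˣ} (hu : u ^ 2 ≠ 1) {g : G2 K} (h : Commute g (i1 (-1))) :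
    g ∈ _root_.commutator (G2 K) := by
  have key : ∀ (f : SL(2, K) →* G2 K) b, f b ∈ _root_.commutator (G2 K) := fun f b =>
    (commutator_mono le_top le_top) (Subgroup.map_commutator ⊤ ⊤ f ▸ mem_map_of_mem f
      ((SL2.commutator_eq_top u.ne_zero fun e => hu (Units.ext (by simpa using e))).ge (mem_top b)))
  obtain ⟨a, b, rfl⟩ := cent h2 h
  refine mul_mem ?_ (key _ b)
  let s : SL(2, K) := ⟨(a * (H6.dg (GeneralLinearGroup.det a, 1))⁻¹).1, by
    rw [← GeneralLinearGroup.val_det_apply, map_mul, map_inv, Units.val_eq_one, mul_inv_eq_one]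
    exact Units.ext (by rw [H6.dg_apply, H6.det_gl2]; simp)⟩
  rw [show a = SpecialLinearGroup.toGL s * H6.dg (GeneralLinearGroup.det a, 1) from
    eq_mul_of_mul_inv_eq (Units.ext rfl), map_mul, dl_toGL, ← cy_conj]
  exact mul_mem (mul_mem (key _ _) (key _ _)) (Normal.conj_mem inferInstance _ (key _ _) _)

theorem cy_z {u : Kˣ} (hu : u * u = -1) : cy K * i1 (-1) * (cy K)⁻¹ = i2 (ds u) * i1 (ds u) := by
  have h : (u : K) * u = -1 := congrArg Units.val hu
  have h' : (u : K)⁻¹ = -u := inv_eq_of_mul_eq_one_right (by rw [mul_neg, h, neg_neg])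
  rw [← ds_neg, ← dl_toGL]
  refine (cy_conj (-1)).trans (ac_inj fun x => ?_)
  rw [ac_dl, ac_dl, ← map_inv, ← map_inv, ← map_inv, SpecialLinearGroup.coe_GL_coe_matrix,
    SpecialLinearGroup.coe_GL_coe_matrix, ds_val, ds_val]
  refine Prod.ext ?_ ?_ <;> ext i j <;> fin_cases i <;> fin_cases j <;>
    simp [H6.dg_apply, H6.coe_gl2, mul_apply, Fin.sum_univ_two, h', mul_left_comm (u : K), h]

theorem quat_syl [Fintype K] {t k : ℕ} (hK : Fintype.card K = t + 1) (ht : H6.TwoPart t (k + 2)) {u : Kˣ}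
    (hu : orderOf u = 2 ^ (k + 2)) : IsSylowIn 2 (closure {ds u, yy K}) ⊤ := by
  have e : closure {ds u, yy K} = zpowers (ds u) ⊔ zpowers (yy K) := by
    rw [zpowers_eq_closure, zpowers_eq_closure, ← Subgroup.closure_union]; rfl
  have h1 : #|zpowers (ds u)| = 2 ^ (k + 2) := by rw [Nat.card_zpowers, orderOf_injective _ ds_inj, hu]
  have h2 : IsPGroup 2 (closure {ds u, yy K}) := e ▸ pgroup_sup (pgroup_of_card h1)
    (IsPGroup.of_card_dvd_pow (n := 2) (by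
      rw [Nat.card_zpowers, orderOf_dvd_iff_pow_eq_one, show 2 ^ 2 = 2 * 2 from rfl, pow_mul, sq (yy K),
        yy_sq, neg_one_sq]))
    (Or.inr (zpowers_le.2 (mem_norm_of_conj_le (by
      rw [conj_zpowers, yy_conj]; exact zpowers_le.2 (inv_mem (mem_zpowers _))))))
  have h3 : H6.TwoPart (Nat.card SL(2, K)) (k + 3) := H6.TwoPart.cancel (b := Nat.card Kˣ) (l := k + 2)
    (by rw [H6.card_SL_mul 1, show k + 3 + (k + 2) = 2 * (k + 2) + 1 by ring]
        exact H6.twoPart_GL2_one hK ht) (H6.card_units_eq hK ▸ ht)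
  obtain ⟨P⟩ : Nonempty (Sylow 2 SL(2, K)) := inferInstance
  refine (isSylowIn_top P).of_card_le h2 le_top ?_
  obtain ⟨n, hn⟩ := pgroup_card Nat.prime_two h2
  have h4 : #|zpowers (ds u)| < #|closure {ds u, yy K}| := H1.card_lt_of_lt (lt_of_le_of_ne
    (e ▸ le_sup_left) fun h => by
      obtain ⟨m, hm⟩ := h.ge (subset_closure (Or.inr rfl))
      exact yy_ne (u ^ m) ((map_zpow ds u m).trans hm))
  rw [h1, hn, Nat.pow_lt_pow_iff_right one_lt_two] at h4
  rw [h3.card_sylow, hn]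
  exact Nat.pow_le_pow_right two_pos h4

theorem main [Fintype K] {t k : ℕ} (hK : Fintype.card K = t + 1) (ht : H6.TwoPart t (k + 3))
    (h2 : (2 : K) ≠ 0) : ∃ (P : Sylow 2 (G2 K)) (x y z : G2 K),
      Hyp (groupFusionSystem (P : Subgroup (G2 K))) (k + 2) x y z ∧
      (∃ g, g * z * g⁻¹ ∈ (P : Subgroup (G2 K)) ∧ g * z * g⁻¹ ≠ z ∧ Commute (g * z * g⁻¹) x) ∧
      ∃ a ∈ (P : Subgroup (G2 K)), ∃ b ∈ (P : Subgroup (G2 K)),
        Commute a x ∧ Commute a y ∧ Commute b x ∧ Commute b y ∧ ¬ Commute a b := by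
  obtain ⟨u, hu⟩ := H6.exists_orderOf_of_dvd (G := Kˣ) (H6.card_units_eq hK ▸ ht.dvd)
  have u2 : u ^ 2 ≠ 1 := fun e => by
    have := Nat.le_of_dvd two_pos (hu ▸ orderOf_dvd_of_pow_eq_one e)
    have := Nat.pow_le_pow_right two_pos (show 2 ≤ k + 3 by omega)
    omega
  have un : u ^ 2 ^ (k + 2) = -1 := by
    have h : (u ^ 2 ^ (k + 2)) ^ 2 = 1 := by rw [← pow_mul, ← pow_succ, ← hu, pow_orderOf_eq_one]
    refine (Units.ext_iff.2 ((sq_eq_one_iff.1 (congrArg Units.val h)).resolve_left fun e => ?_))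
    have := Nat.le_of_dvd (by positivity) (hu ▸ orderOf_dvd_of_pow_eq_one (Units.ext e))
    exact absurd this (not_le.2 (Nat.pow_lt_pow_right one_lt_two (by omega)))
  have hQ := quat_syl hK ht hu
  have z1 : (i1 (-1) : G2 K) ≠ 1 := fun e => sl2_neg_one_ne h2 (i1_inj (e.trans (map_one _).symm))
  have z2 : (i1 (-1) : G2 K) * i1 (-1) = 1 := by rw [← map_mul, neg_mul_neg, one_mul, map_one]
  have c1 : ∀ b, Commute (i1 b : G2 K) (i1 (-1)) := fun b => (Commute.neg_one_right b).map _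
  obtain ⟨P, hP, hle⟩ := exists_isSylowIn_ge (H := 𝐂[(i1 (-1) : G2 K)])
    (pgroup_sup (hQ.isPGroup.map i1) (hQ.isPGroup.map i2) (Or.inl (le_norm_of_le_cent (by
      rintro _ ⟨a, -, rfl⟩ _ ⟨b, -, rfl⟩; exact i_comm b a))))
    (sup_le (by rintro _ ⟨a, -, rfl⟩; exact mem_cent1.2 (c1 a))
      (by rintro _ ⟨a, -, rfl⟩; exact mem_cent1.2 (i_comm a _)))
  have m1 : ∀ b ∈ closure {ds u, yy K}, i1 b ∈ P := fun b hb => hle (mem_sup_left (mem_map_of_mem _ hb))
  have m2 : ∀ b ∈ closure {ds u, yy K}, i2 b ∈ P := fun b hb => hle (mem_sup_right (mem_map_of_mem _ hb))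
  have hx : ds u ∈ closure {ds u, yy K} := Subgroup.subset_closure (Or.inl rfl)
  have hy : yy K ∈ closure {ds u, yy K} := Subgroup.subset_closure (Or.inr rfl)
  have hz : i1 (-1) ∈ P := yy_sq (K := K) ▸ m1 _ (mul_mem hy hy)
  have cP : ∀ g ∈ P, Commute g (i1 (-1)) := fun g hg => mem_cent1.1 (hP.le hg)
  have cj : ∀ g : G2 K, Commute (g * i1 (-1) * g⁻¹) (i1 (ds u)) → Commute (g * i1 (-1) * g⁻¹) (i1 (yy K)) →
      g * i1 (-1) * g⁻¹ = i1 (-1) := fun g => inv_eq h2 u2 (by rw [conj_mul, z2, mul_one, mul_inv_cancel])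
    (by simpa using z1)
  have hS : IsSylowIn 2 P ⊤ := sylow_of_sylow_norm Nat.prime_two le_top
    (hP.of_le (le_inf le_top le_normalizer) fun g hg => by
      have : ∀ b ∈ P, Commute (g * i1 (-1) * g⁻¹) b := fun b hb => by
        have := (cP _ (H1.conj_mem_of_mem_normalizer' hg.2 hb)).symm.map (MulAut.conj g)
        simpa [mul_assoc] using this
      exact mem_cent1.2 (mul_inv_eq_iff_eq_mul.1 (cj g (this _ (m1 _ hx)) (this _ (m1 _ hy)))))
  have e : closure {i1 (ds u), i1 (yy K)} = (closure {ds u, yy K}).map i1 := by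
    rw [MonoidHom.map_closure, Set.image_pair]
  have sc : ∀ g, Commute g (i1 (-1)) → ∀ r ∈ closure {i1 (ds u), i1 (yy K)}, g * r * g⁻¹ ∈ P →
      g * r * g⁻¹ ∈ closure {i1 (ds u), i1 (yy K)} := fun g hg r hr h => by
    rw [e] at hr ⊢
    obtain ⟨r, -, rfl⟩ := hr
    obtain ⟨a, b, rfl⟩ := cent h2 hg
    obtain ⟨c, hc⟩ := dl_conj a (b * r * b⁻¹)
    rw [show dl a * i1 b * i1 r * (dl a * i1 b)⁻¹ = i1 c by rw [← hc, map_mul, map_mul, map_inv]; group]
      at h ⊢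
    exact mem_map_of_mem _ ((hQ.maximal (P.comap i1) (hP.isPGroup.comap_of_injective _ i1_inj) m1
      le_top).le h)
  refine ⟨hS.toSylowTop, i1 (ds u), i1 (yy K), i1 (-1), ⟨hP.isPGroup, isSaturated_groupFusionSystem _,
    by omega, m1 _ hx, m1 _ hy, by rw [orderOf_injective _ i1_inj, orderOf_injective _ ds_inj, hu],
    by rw [← map_pow, ← map_pow, un, ds_neg], by rw [← map_inv, ← map_mul, ← map_mul, yy_conj, map_inv],
    by rw [← map_mul, yy_sq], le_norm_iff.2 fun g hg r hr => sc g (cP g hg) r hr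
      (mul_mem (mul_mem hg (e.le.trans (map_le_iff_le_comap.2 m1) hr)) (inv_mem hg)),
    fun Q f hf hz' hf' r hr hr' => ?_, fun Q f hf hz' h h' => ?_,
    fun w hw w1 h h' Q f _ _ _ hf => inv_eq h2 u2 hw w1 h h' ▸ hf, fun g hg => ?_⟩,
    ⟨cy K, ?_⟩, _, m2 _ hx, _, m2 _ hy, i_comm _ _, i_comm _ _, i_comm _ _, i_comm _ _,
    fun h => ncomm u2 (i2_inj (by rw [map_mul, map_mul, h.eq]))⟩
  · obtain ⟨-, h3, g, hg⟩ := FusionSystem.isMap_group.1 hf
    rw [hg _ hz'] at hf'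
    exact hg r hr ▸ sc g (mul_inv_eq_iff_eq_mul.1 hf') r hr' (hg r hr ▸ h3 r hr)
  · obtain ⟨-, -, g, hg⟩ := FusionSystem.isMap_group.1 hf
    rw [hg _ hz'] at h h' ⊢
    exact cj g h h'
  · refine (Subgroup.closure_le _).2 ?_ ((commutator_inf_eq_focalSubgroup hS.toSylowTop).le
      ⟨mem_comm h2 u2 (cP g hg), hg⟩)
    rintro _ ⟨h3, x, hx, v, rfl⟩
    have h4 : v * x⁻¹ * v⁻¹ ∈ P := by
      simpa [commutatorElement_def, mul_assoc] using P.mul_mem (P.inv_mem hx) h3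
    obtain ⟨φ, h5, h6⟩ := FusionSystem.isMap_group_cj (S := P) (g := v) (zpowers_le.2 hx) (by
      rintro _ ⟨n, rfl⟩
      rw [← conj_zpow]
      simpa [mul_assoc] using P.zpow_mem (P.inv_mem h4) n)
    exact Subgroup.subset_closure ⟨_, φ, ⟨x, mem_zpowers x⟩⁻¹, h5, by
      rw [h6]; simp [commutatorElement_def, mul_assoc]⟩
  · rw [cy_z (u := u ^ 2 ^ (k + 1)) (by rw [← sq, ← pow_mul, ← pow_succ, un])]
    have h3 := pow_mem hx (2 ^ (k + 1))
    rw [← map_pow] at h3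
    refine ⟨mul_mem (m2 _ h3) (m1 _ h3), fun h => ?_, (i_comm _ _).mul_left ((Commute.all _ _).map _ |>.map _)⟩
    have h4 := congrArg (fun g => (ac g (0, 1)).2) h
    simp only [ac_mul, ac_i1, ac_i2, mul_one] at h4
    exact sl2_neg_one_ne h2 (Subtype.ext (h4.symm.trans (congrArg Subtype.val
      (mul_inv_cancel (ds (u ^ 2 ^ (k + 1)))))))

instance instG2T : G2T := ⟨fun k hk => by
  obtain ⟨k, rfl⟩ := Nat.exists_eq_add_of_le' hk
  obtain ⟨t, hp, ht⟩ := H6.exists_prime_sub (k + 2)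
  haveI := Fact.mk hp
  have t2 : 2 ∣ t := (dvd_pow_self 2 (by omega)).trans ht.dvd
  refine ⟨ZMod (t + 1), inferInstance, inferInstance, by
    rw [H6.card_zmod_succ]; exact (even_iff_two_dvd.2 t2).add_one, main (H6.card_zmod_succ t) ht fun e => ?_⟩
  have := Nat.le_of_dvd two_pos ((ZMod.natCast_eq_zero_iff 2 (t + 1)).1 e)
  have := Nat.pos_of_ne_zero ht.ne_zero
  omega⟩

end Cfsg.Agent.Wz.G
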