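import Cfsg.Agent.Wz.J
import Cfsg.Agent.H1.Basic

/-! The quasidihedral case. -/

set_option autoImplicit false
set_option linter.unusedSectionVars false

namespace Cfsg.Agent.Wz

open Subgroup Equiv Cfsg.Fus Cfsg.Agent.FT Cfsg.FusionSystem

variable {G : Type*} [Group G] [Finite G] {k : ℕ} {x y z r s g t c v w : G} {a b i j : ℤ} {P Q : Subgroup G}
  {σ τ φ : Perm G} {F : FusionSystem (⊤ : Subgroup G)}

structure NoBig (F : FusionSystem (⊤ : Subgroup G)) (k : ℕ) (x y z : G) : Prop extends Hyp F k x y z where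
  nb : ∀ t, Zc F z t → t ≠ z → ¬ Big x y z t

namespace NoBig
variable (h : NoBig F k x y z)
include h

theorem inv (ht : Zc F z t) (tz : t ≠ z) : t * x * t⁻¹ = x⁻¹ := (h.nbig (h.tt ht).1 (h.nb t ht tz)).1

theorem ncomm (e : t * x * t⁻¹ = x⁻¹) (hc : Commute c x) : ¬ Commute (c * t) x := fun e' => by
  have := inv_mul_cancel_left c t ▸ hc.inv_left.mul_left e'
  rw [this.eq, mul_inv_cancel_right, eq_inv_iff_mul_eq_one] at e
  exact h.qg.x2 e

theorem key (ht : Zc F z t) (tz : t ≠ z) (cx : Commute c x) (cy : Commute c y) (hc : Zc F z (c * t)) :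
    c = 1 ∨ c = z := by
  by_contra! hn
  have tt := (h.tt ht).1
  have tx := h.inv ht tz
  have tc : t * c * t⁻¹ = c ^ (-1 : ℤ) := by
    rw [inv_eq_of_mul_eq_one_right tt, zpow_neg_one, eq_inv_iff_mul_eq_one, ← mul_eq_one_comm, ← (h.tt hc).1]; group
  have z1 : ∀ n : ℤ, Zc F z (c ^ n * t) := fun n => by
    have e : ∀ m b : ℤ, c ^ m * (c ^ b * t) * (c ^ m)⁻¹ = c ^ (2 * m + b) * t := fun m b => by
      rw [← zpow_neg, mul_assoc, mul_assoc, mul_inv_eq_iff_eq_mul.1 (cjz tc (-m))]; group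
    rcases Int.even_or_odd' n with ⟨m, rfl | rfl⟩
    · have := e m 0 ▸ (show Zc F z (c ^ (0 : ℤ) * t) by simpa using ht).conj (c ^ m)
      rwa [add_zero] at this
    · exact e m 1 ▸ (show Zc F z (c ^ (1 : ℤ) * t) by simpa using hc).conj (c ^ m)
  have z2 : ∀ a n : ℤ, Zc F z (x ^ a * c ^ n * t) := fun a n => mul_assoc _ _ t ▸
    h.all_conj (z1 n) (h.nb _ (z1 n) fun e => h.ncomm tx (cx.zpow_left n) (e ▸ h.zs x)) a
  obtain ⟨a, n, w2, w1, wz⟩ : ∃ a n : ℤ, x ^ a * c ^ n * (x ^ a * c ^ n) = 1 ∧ x ^ a * c ^ n ≠ 1 ∧ x ^ a * c ^ n ≠ z := by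
    obtain ⟨n, h1, h2⟩ := Nat.exists_not_and_succ_of_not_zero_of_exists (p := fun n => c ^ 2 ^ n = 1)
      (by simpa using hn.1) (h.pG c)
    rw [pow_succ, pow_mul, sq] at h2
    by_cases e : c ^ 2 ^ n = z
    · obtain ⟨n, rfl⟩ : ∃ m, n = m + 1 := ⟨n - 1, by rcases n with _ | n; exacts [absurd (by simpa using e) hn.2, rfl]⟩
      obtain ⟨m, rfl⟩ : ∃ m, k = m + 1 := ⟨k - 1, by have := h.k2; omega⟩
      have e1 : x ^ (2 ^ m : ℤ) * x ^ (2 ^ m : ℤ) = z := by rw [h.qg.hz', ← zpow_add, pow_succ, mul_two]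
      have : ∀ d, Commute d y → x ^ (2 ^ m : ℤ) * c ^ ((2 ^ n : ℕ) : ℤ) ≠ d := fun d hd e' => h.qg.z1 (e1 ▸
        (h.qg.comm_iff (b := 0)).1 (by
          rw [eq_mul_inv_of_mul_eq e']; simpa using hd.mul_left (cy.zpow_left _).inv_left))
      refine ⟨2 ^ m, (2 ^ n : ℕ), ?_, this _ (Commute.one_left y), this _ h.qg.zy⟩
      rw [(cx.symm.zpow_zpow _ _).symm.mul_mul_mul_comm, e1, zpow_natCast, ← sq, ← pow_mul, ← pow_succ, e, h.qg.zz]
    · refine ⟨0, (2 ^ n : ℕ), ?_⟩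
      rw [zpow_zero, one_mul, zpow_natCast]; exact ⟨h2, h1, e⟩
  have m : x ^ a * c ^ n ∈ 𝐂[t] := mem_cent1.2 (mul_inv_eq_iff_eq_mul.1 (by
    rw [← conj_mul, cjz (i := -1) (by simpa using tx), cjz tc, ← inv_eq_of_mul_eq_one_right w2, mul_inv_rev,
      (cx.zpow_zpow n a).inv_inv.eq]; simp)).symm
  obtain ⟨φ, p1, p2⟩ := h.phi ht
  have tA := self_mem_cent1 t
  have zA := h.zA t
  have n1 : ∀ g ∈ 𝐂[t], g ≠ 1 → Zc F z (g * t) → φ (g * t) * x * (φ (g * t))⁻¹ = x⁻¹ := fun g hg g1 hz =>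
    h.inv (hz.map p1 (mul_mem hg tA)) fun e => g1 (by simpa using φ.injective (e.trans p2.symm))
  have n2 := n1 _ m w1 (z2 a n)
  have n3 := n1 _ (mul_mem zA m) (fun e => wz (by rw [← h.qg.zi, eq_comm, inv_eq_iff_mul_eq_one, e]))
    (by rw [h.qg.hz', ← mul_assoc, ← zpow_add]; exact h.qg.hz' ▸ z2 _ n)
  rw [mul_assoc z, p1.homOn zA (mul_mem m tA), mul_inv_rev, ← mul_assoc, mul_assoc (φ z), mul_assoc (φ z), n2,
    ← conj_inv, h.inv (zc_z.map p1 zA) fun e => tz (φ.injective (p2.trans e.symm)), inv_inv,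
    eq_inv_iff_mul_eq_one] at n3
  exact h.qg.x2 n3

theorem sub (ht : Zc F z t) (tz : t ≠ z) (hs : Zc F z s) (sz : s ≠ z) : ∃ a : ℤ, s = x ^ a * t := by
  obtain ⟨t1, _, ⟨i, rfl⟩, t2⟩ := h.nbig (h.tt ht).1 (h.nb t ht tz)
  obtain ⟨s1, _, ⟨j, rfl⟩, s2⟩ := h.nbig (h.tt hs).1 (h.nb s hs sz)
  have e1 : x ^ (j - i) * t * x * (x ^ (j - i) * t)⁻¹ = x⁻¹ := by
    rw [mul_inv_rev, ← mul_assoc, mul_assoc _ t, mul_assoc _ (t * x), t1]; group
  have e2 : x ^ (j - i) * t * y * (x ^ (j - i) * t)⁻¹ = x ^ (2 * j + 1) * y := by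
    rw [mul_inv_rev, ← mul_assoc, mul_assoc _ t, mul_assoc _ (t * y), t2, ← zpow_neg, mul_assoc, mul_assoc, h.qg.yz]
    group
  have c : ∀ p q g : G, p * g * p⁻¹ = q * g * q⁻¹ → Commute (p * q⁻¹) (q * g * q⁻¹) := fun p q g e => by
    rw [Commute, SemiconjBy]; nth_rw 2 [← e]; group
  have cx := (c _ _ _ (s1.trans e1.symm)).inv_right
  rw [e1, inv_inv] at cx
  have cy := (cx.zpow_right (2 * j + 1)).inv_right.mul_right (e2 ▸ c _ _ _ (s2.trans e2.symm))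
  rw [inv_mul_cancel_left] at cy
  rcases h.key (h.all_conj ht (h.nb t ht tz) _) (fun e => h.ncomm t1 ((Commute.refl x).zpow_left _) (e ▸ h.zs x)) cx cy
    (by rw [inv_mul_cancel_right]; exact hs) with e | e
  exacts [⟨_, mul_inv_eq_one.1 e⟩, ⟨2 ^ k + (j - i), by rw [zpow_add, ← h.qg.hz', ← e]; group⟩]

theorem sqz (h1 : F.IsMap Q σ) (hv : v ∈ Q) (e : v * v = z) : σ z = z := by
  by_contra n
  have h2 := h.inv (zc_z.map h1 (e ▸ mul_mem hv hv)) n
  obtain ⟨_, -, ⟨i, rfl⟩, h3, -⟩ := h.act (σ v)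
  rw [← e, h1.homOn hv hv, show ∀ p : G, p * p * x * (p * p)⁻¹ = p * (p * x * p⁻¹) * p⁻¹ from fun p => by group, h3,
    cjz h3, ← zpow_neg_one, ord_iff h.ox] at h2
  obtain ⟨n, h4⟩ := h.qg.ev h2
  have : 2 * (i * i + i - 2 * n) + 1 = 0 := by linarith
  omega

theorem qd (ht : Zc F z t) (tz : t ≠ z) : ∃ P : Subgroup G, IsQuasiDihedral P ∧ F.StronglyClosed P := by
  obtain ⟨tt, t1⟩ := h.tt ht
  obtain ⟨tx, j, hj, ty⟩ := h.nbig tt (h.nb t ht tz)
  have nr : zpowers t ≤ normalizer (closure {x, y} : Subgroup G) := le_top.trans h.nrm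
  have zt : ∀ {g}, g ∈ zpowers t → g = 1 ∨ g = t := (H6.mem_zpowers_of_mul_self tt).1
  have tm : t ∈ zpowers t ⊔ closure {x, y} := mem_sup_left (mem_zpowers t)
  have zP : ∀ s, Zc F z s → s ∈ zpowers t ⊔ closure {x, y} := fun s hs => by
    rcases eq_or_ne s z with rfl | sz
    · exact mem_sup_right h.qg.zm
    · obtain ⟨a, rfl⟩ := h.sub ht tz hs sz
      exact mul_mem (mem_sup_right (h.qg.xm a)) tm
  have sq : ∀ a : ℤ, x ^ a * y * t * (x ^ a * y * t) = x ^ (2 * a - j + 2 ^ k) := fun a => by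
    rw [show ∀ p : G, p * t * (p * t) = p * (t * p * t⁻¹) * (t * t) from fun p => by group, tt, mul_one, ← conj_mul,
      cjz (i := -1) (by simpa using tx), ty, ← mul_assoc (x ^ (-1 * a)), ← zpow_add, h.qg.mul2, h.qg.hz', ← zpow_add]
    congr 1; ring
  have od : ∀ a : ℤ, Odd (2 * a - j + 2 ^ k) := fun a =>
    ((even_two_mul a).sub_odd hj).add_even (even_two.pow_of_ne_zero (by have := h.k2; omega))
  refine ⟨zpowers t ⊔ closure {x, y}, ⟨k + 2, by have := h.k2; omega, ?_, ⟨y * t, mul_mem (mem_sup_right h.qg.ym1) tm⟩,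
    ⟨t, tm⟩, ?_, ?_, Subtype.ext ?_⟩, stronglyClosed_of_perm le_top fun Q σ h1 v hv hP => ?_⟩
  · rw [H1.card_sup_of_disjoint nr (disjoint_def.2 fun m1 m2 => (zt m1).elim id fun e =>
      absurd (h.qg.invol (e ▸ m2) tt) (not_or.2 ⟨t1, tz⟩)), h.qg.card, Nat.card_zpowers,
      orderOf_eq_prime ((pow_two t).trans tt) t1]; ring
  · have := ord_odd h.ox (od 0)
    rw [← sq, zpow_zero, one_mul, ← pow_two] at this
    rw [← orderOf_coe]
    refine orderOf_eq_prime_pow (fun e => ?_) (by rw [pow_succ', pow_mul, ← this, pow_orderOf_eq_one])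
    rw [pow_succ', pow_mul, ← orderOf_dvd_iff_pow_eq_one, this, Nat.pow_dvd_pow_iff_le_right one_lt_two] at e
    omega
  · rw [← orderOf_coe]; exact orderOf_eq_prime ((pow_two t).trans tt) t1
  · have := (h.qg.zpow (od 0)).hz
    rw [← sq, zpow_zero, one_mul, ← pow_two, ← pow_mul, ← pow_succ'] at this
    change t * (y * t) * t⁻¹ = (y * t) ^ (2 ^ (k + 1) - 1)
    rw [pow_sub _ Nat.one_le_two_pow, ← this, pow_one, mul_inv_rev, h.qg.yi, inv_eq_of_mul_eq_one_right tt,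
      ← mul_assoc t z, ← (h.zs t).eq, ← mul_assoc, ← mul_assoc z, ← mul_assoc z, h.qg.zz, mul_assoc _ t, tt]
    simp
  · obtain ⟨r, hr, s, hs, rfl⟩ := (H1.mem_sup_of_le_normalizer' nr).1 (sup_comm (zpowers t) _ ▸ hP)
    by_cases e : r * s * (r * s) = 1
    · rcases zt hs with rfl | rfl
      · rw [mul_one] at e hv ⊢
        rcases h.qg.invol hr e with rfl | rfl
        exacts [h1.homOn.map_one.symm ▸ one_mem _, zP _ (zc_z.map h1 hv)]
      · obtain ⟨a, rfl | rfl⟩ := h.qg.mem.1 hr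
        · exact zP _ ((h.all_conj ht (h.nb _ ht tz) a).map h1 hv)
        · have := h.qg.ev ((ord_one h.ox).1 ((sq a).symm.trans e))
          have := od a
          rw [Int.odd_iff] at this; omega
    · have ss : s * s = 1 := by rcases zt hs with rfl | rfl; exacts [one_mul 1, tt]
      obtain ⟨n, e'⟩ := h.qg.pow_z h.pG (r := r * s * (r * s)) (by
        rw [show r * s * (r * s) = r * (s * r * s⁻¹) * (s * s) by group, ss, mul_one]; exact mul_mem hr (h.cm s hr)) e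
      rw [(Commute.refl _).mul_pow] at e'
      obtain ⟨τ, p1, p2, p3⟩ := h.ext_R h1 (e' ▸ mul_mem (pow_mem hv n) (pow_mem hv n)) (h.sqz h1 (pow_mem hv n) e')
      have sm : s ∈ Q ⊔ closure {x, y} := (mul_mem_cancel_left (mem_sup_right hr)).1 (mem_sup_left hv)
      refine (mul_mem_cancel_left (inv_mem ?_)).1 (mem_sup_right (p3 _ hv))
      rw [p1.homOn (mem_sup_right hr) sm]
      refine mul_mem (mem_sup_right (p2 r hr)) ?_
      rcases zt hs with rfl | rfl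
      exacts [p1.homOn.map_one.symm ▸ one_mem _, zP _ (ht.map p1 sm)]

end NoBig

instance instQD : QD := ⟨fun h ⟨_, h1, h2⟩ hn => NoBig.qd ⟨h, hn⟩ h1 h2⟩

end Cfsg.Agent.Wz
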