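import Cfsg.Agent.Wz.U2

/-! `UNI`: two standard systems with the same group data are equal. -/

set_option autoImplicit false
set_option linter.unusedSectionVars false

namespace Cfsg.Agent.Wz

open Subgroup Equiv Cfsg.Fus Cfsg.Agent.FT Cfsg.Agent.H6 Cfsg.FusionSystem

variable {G : Type*} [Group G] [Finite G] {k : ℕ} {x y z ζ c u w r s : G} {X R C M : Subgroup G}
  {σ τ α β : Perm G} {F E D : FusionSystem (⊤ : Subgroup G)}

/-- either some quaternion subgroup of `C` is moved over `R`, or `D` preserves `C(ζ)` -/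
theorem GS.E2 (h : GS k x y ζ c z u) (hF : Hyp F k x y z) (hD : D.IsSaturated 2)
    (sc : D.StronglyClosed (closure {x, y})) (d : ∀ P (σ : Perm G), D.IsMap P σ → F.IsMap P σ ∧ (z ∈ P → σ z = z)) :
    (∃ X β, Gd F (closure {ζ, c}) (closure {x, y}) X β) ∨ D ≤ H2.focSys ⊤ 𝐂[ζ] h.symm.comm_le := by
  refine or_iff_not_imp_left.2 fun hn => le_of_odd' h.pG hD fun X hc hr σ hσ ho => ?_
  obtain ⟨h1, h2⟩ := h.SL sc hc hr hσ ho
  have hz : z ∈ X := hc.centralizerIn_le ⟨trivial, fun g _ => (h.zs g).symm⟩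
  have σz := (d _ _ hσ.isMap).2 hz
  have key : σ ∈ fixP (X ⊓ closure {ζ, c}) := by
    by_contra t3
    obtain ⟨τ, t1, t2, t4⟩ := hF.ext_R (d _ _ hσ.isMap).1 hz σz
    have zm : zpowers z ≤ X ⊓ closure {ζ, c} := zpowers_le.2 ⟨hz, h.zC⟩
    have m : ∀ s ∈ X ⊓ closure {ζ, c}, (τ s)⁻¹ * σ s ∈ zpowers z := fun s hs => by
      rcases h.int (t4 s hs.1) (mul_mem (inv_mem (h.presC t1.homOn (mem_sup_right h.q1.xm1)
        (mem_sup_right (h.q1.ym 0)) h.q1.xm1 (h.q1.ym 0) (t2 _ h.q1.xm1) (t2 _ (h.q1.ym 0)) (h.q1.nc 0)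
        (mem_sup_left hs.1) hs.2)) (h1 s hs).2) with e | e <;> rw [e]
      exacts [one_mem _, mem_zpowers _]
    have m' : ∀ s ∈ X ⊓ closure {ζ, c}, τ s ∈ X ⊓ closure {ζ, c} := fun s hs =>
      inv_mem_iff.1 ((mul_mem_cancel_right (h1 s hs)).1 (zm (m s hs)))
    have fz : σ ∈ fixP (zpowers z) := by
      rintro _ ⟨n, rfl⟩
      rw [hσ.homOn.map_zpow hz, σz]
    have ind : ∀ n : ℕ, ∀ s ∈ X ⊓ closure {ζ, c}, ((τ ^ n) s)⁻¹ * (σ ^ n) s ∈ zpowers z := fun n s hs => by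
      induction n with
      | zero => simp
      | succ i ih =>
        have m1 := (pow_mem (mem_setStab_of_finite m') i s).2 hs
        rw [pow_succ', pow_succ', Perm.mul_apply, Perm.mul_apply, ← mul_inv_cancel_left ((τ ^ i) s) ((σ ^ i) s),
          hσ.homOn m1.1 (zm ih).1, fz _ ih, ← mul_assoc]
        exact mul_mem (m _ m1) ih
    have a : σ ∈ autStab (X ⊓ closure {ζ, c}) := ⟨hσ.homOn.mono inf_le_left, mem_setStab_of_finite h1⟩
    refine hn ⟨_, h.symm.gd inf_le_right (t1.mono (sup_le_sup_right inf_le_left _)) m' t2 fun n e => t3 ?_⟩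
    refine mem_fixP_of_trivOn_of_coprime (h.pG.to_subgroup _) (A := zpowers z) (mem_of_odd ho (n := n)
      ⟨pow_mem a _, fun s hs => ?_⟩) (fixP_anti inf_le_left fz) (Nat.coprime_two_right.2 ho)
      (by rw [pow_orderOf_eq_one]; exact one_mem _)
    simpa only [e s hs] using ind (2 ^ n) s hs
  refine (PermData.isMap_toSystem _).2 ⟨hσ.homOn, le_top, fun _ _ => trivial, fun s hs => ?_⟩
  rcases h2 with h2 | h2
  · obtain ⟨r, hr, t, ht, rfl⟩ := h2 s hs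
    have m := mul_mem ((closure {x, y}).inv_mem hr.2) (sc.mem hσ.isMap hr.1 hr.2)
    rw [hσ.homOn hr.1 ht.1, key t ht, show (r * t)⁻¹ * (σ r * t) = t⁻¹ * (r⁻¹ * σ r * t) by group,
      (h.cm _ m t ht.2).eq, inv_mul_cancel_left]
    exact mem_cent1.2 (h.cm _ m _ h.q2.xm1)
  · rw [h2 s hs, inv_mul_cancel]; exact one_mem _

namespace Std
variable (h : Std F k x y z u w α)
include h

theorem gs : GS k x y (x * u ^ (2 : ℤ)) (w * y) z u := by
  have q := h.hyp.qg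
  have c1 : Commute x (x * u ^ (2 : ℤ)) := (Commute.refl x).mul_right (h.ux.symm.zpow_right 2)
  have c2 : Commute y (x * u ^ (2 : ℤ)) := mul_inv_eq_iff_eq_mul.1 (by
    rw [← conj_mul, ← conj_zpow, q.yx, h.yu, h.ux.symm.mul_zpow]; group)
  have c3 : Commute x (w * y) := (mul_inv_eq_iff_eq_mul.1 (by
    rw [show w * y * x * (w * y)⁻¹ = w * (y * x * y⁻¹) * w⁻¹ by group, q.yx, ← conj_inv, h.wx, inv_inv])).symm
  have c4 : Commute y (w * y) := h.wy.symm.mul_right (Commute.refl y)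
  have zp : ∀ a : ℤ, (x * u ^ (2 : ℤ)) ^ a = x ^ a * u ^ (2 * a) := fun a => by
    rw [(h.ux.symm.zpow_right 2).mul_zpow, zpow_mul]
  have uy : u * y * u⁻¹ = x ^ (-1 : ℤ) * y := by
    rw [zpow_neg_one, mul_inv_eq_iff_eq_mul, mul_assoc, mul_inv_eq_iff_eq_mul.1 h.yu]; group
  have uw : u * w * u⁻¹ = u ^ (2 : ℤ) * w := by
    have := h.wu
    rw [← inv_eq_iff_eq_inv, conj_inv, mul_inv_eq_iff_eq_mul] at this
    rw [mul_assoc, this, zpow_two, mul_assoc]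
  have q2 : QG k (x * u ^ (2 : ℤ)) (w * y) z := by
    have hz : (x * u ^ (2 : ℤ)) ^ (2 ^ k : ℤ) = z := by
      rw [zp, ← q.hz', (ord_one h.ou).2 ⟨1, by ring⟩, mul_one]
    refine ⟨q.k2, orderOf_eq_prime_pow (fun e => q.z1 ?_) ?_, ?_, ?_, ?_⟩
    · rw [← hz, ← e, ← zpow_natCast]; norm_num
    · rw [pow_succ, pow_mul, ← zpow_natCast _ (2 ^ k)]; push_cast; rw [hz, pow_two, q.zz]
    · rw [← hz, ← zpow_natCast]; norm_num
    · rw [show w * y * (x * u ^ (2 : ℤ)) * (w * y)⁻¹ = w * (y * (x * u ^ (2 : ℤ)) * y⁻¹) * w⁻¹ by group, c2.eq,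
        mul_inv_cancel_right, ← conj_mul, ← conj_zpow, h.wx, h.wu, (h.ux.symm.zpow_right 2).eq]
      group
    · rw [h.wy.symm.mul_mul_mul_comm, h.ww, q.yy, one_mul]
  have cm : ∀ r ∈ closure ({x, y} : Set G), ∀ s ∈ closure ({x * u ^ (2 : ℤ), w * y} : Set G), Commute r s := by
    intro r hr s hs
    obtain ⟨a, rfl | rfl⟩ := q.mem.1 hr <;> obtain ⟨b, rfl | rfl⟩ := q2.mem.1 hs
    exacts [c1.zpow_zpow a b, (c1.zpow_zpow a b).mul_right (c3.zpow_left a),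
      (c1.zpow_zpow a b).mul_left (c2.zpow_right b),
      ((c1.zpow_zpow a b).mul_right (c3.zpow_left a)).mul_left ((c2.zpow_right b).mul_right c4)]
  refine ⟨h.hyp.pG, q, q2, cm, h.ux, h.ux.mul_right ((Commute.refl u).zpow_right 2), ⟨-1, by decide, uy⟩,
    ⟨1, odd_one, ?_⟩, fun g => ?_⟩
  · rw [← conj_mul, uy, uw, zpow_one, (h.ux.symm.zpow_right 2).eq, zpow_neg_one,
      show u ^ (2 : ℤ) * w * (x⁻¹ * y) = u ^ (2 : ℤ) * (w * x * w⁻¹)⁻¹ * (w * y) by group, h.wx, inv_inv]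
  have : (closure ({x, y} : Set G)).Normal := ⟨fun r hr g => h.hyp.cm g hr⟩
  set M := closure ({x, y} : Set G) ⊔ closure {x * u ^ (2 : ℤ), w * y}
  have mx : ∀ a : ℤ, x ^ a ∈ M := fun a => mem_sup_left (q.xm a)
  have my : y ∈ M := mem_sup_left q.ym1
  have mc : w * y ∈ M := mem_sup_right q2.ym1
  have mw : w ∈ M := (mul_mem_cancel_right my).1 mc
  have mu : u ^ (2 : ℤ) ∈ M := (mul_mem_cancel_left (mem_sup_left q.xm1)).1 (mem_sup_right q2.xm1)
  have key : ∀ a b : ℤ, ∀ t ∈ M, u * t * u⁻¹ ∈ M → x ^ a * u ^ b * t ∈ M ∨ x ^ a * u ^ b * t * u⁻¹ ∈ M := by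
    intro a b t h1 h2
    obtain ⟨n, rfl | rfl⟩ := Int.even_or_odd' b
    · exact .inl (mul_mem (mul_mem (mx a) (zpow_mul u 2 n ▸ zpow_mem mu n)) h1)
    · refine .inr ?_
      rw [show x ^ a * u ^ (2 * n + 1) * t * u⁻¹ = x ^ a * (u ^ (2 : ℤ)) ^ n * (u * t * u⁻¹) by group]
      exact mul_mem (mul_mem (mx a) (zpow_mem mu n)) h2
  have m1 : u * w * u⁻¹ ∈ M := uw ▸ mul_mem mu mw
  have m2 : u * y * u⁻¹ ∈ M := uy ▸ mul_mem (mx _) my
  have : g ∈ M ∨ g * u⁻¹ ∈ M := by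
    obtain ⟨a, b, rfl | rfl | rfl | rfl⟩ := h.all g
    exacts [by simpa using key a b 1 (one_mem _) (by simp), key a b w mw m1, key a b y my m2,
      mul_assoc _ w y ▸ key a b _ mc (by rw [← conj_mul]; exact mul_mem m1 m2)]
  rcases this with m | m <;> obtain ⟨r, hr, s, hs, e⟩ := mem_sup_of_normal_left.1 m
  exacts [⟨r, hr, s, hs, .inl e.symm⟩, ⟨r, hr, s, hs, .inr (by rw [e]; group)⟩]

theorem top_le (hM : ⁅(⊤ : Subgroup G), ⊤⁆ ≤ M) (hx : x ∈ M) (hu : u ∈ M)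
    (d : ∀ P (σ : Perm G), F.IsMap P σ → z ∈ P → σ z = z → D.IsMap P σ) (hD : D ≤ H2.focSys ⊤ M hM) : ⊤ ≤ M := by
  refine h.hyp.foc.trans (H2.focal_le_of_sub (h := hM) (le_iff_isSubsystemOf.1 (h.gen _
    (fun P σ h1 h2 h3 => le_iff_isMap.1 hD _ _ (d P σ h1 h2 h3)) ((PermData.isMap_toSystem _).2
      ⟨h.map.homOn, le_top, fun _ _ => trivial, fun s hs => ?_⟩))))
  have n : ∀ g t, t ∈ M → g * t * g⁻¹ ∈ M := fun g t ht => by
    simpa [commutatorElement_def] using mul_mem (hM (commutator_mem_commutator (mem_top g) (mem_top t))) ht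
  induction hs using closure_induction with
  | mem s hs =>
    rcases hs with rfl | rfl | rfl
    exacts [h.ax ▸ mul_mem (M.inv_mem hx) (M.inv_mem (mul_mem hx hu)), h.au ▸ mul_mem (M.inv_mem hu) hx,
      by rw [h.aw, inv_mul_cancel]; exact one_mem _]
  | one => simp [h.map.homOn.map_one]
  | mul s t hs ht h1 h2 =>
    rw [h.map.homOn hs ht]
    simpa [mul_assoc] using mul_mem (n t⁻¹ _ h1) h2
  | inv s hs h1 =>
    rw [h.map.homOn.map_inv hs]
    simpa [mul_assoc] using n s _ (M.inv_mem h1)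

theorem ex : Ex F (closure {x, y}) (closure {x * u ^ (2 : ℤ), w * y}) ∧
    Ex F (closure {x * u ^ (2 : ℤ), w * y}) (closure {x, y}) := by
  obtain ⟨D, d1, d2, d3, d4⟩ := h.hyp.exists_D
  have g := h.gs
  constructor
  · rcases g.E1 d1 d2 with ⟨X, β, h1, h2, h3⟩ | e
    · exact g.ex ⟨h1, ⟨(d3 _ _ h2.isMap).1, h2.2⟩, h3⟩
    · exact absurd (mem_cent1.1 (h.top_le _ (self_mem_cent1 x) (mem_cent1.2 h.ux) d4 e (mem_top (x ^ (0 : ℤ) * y)))).symm
        (g.q1.nc 0)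
  · rcases g.E2 h.hyp d1 d2 d3 with ⟨X, β, h1⟩ | e
    · exact g.symm.ex h1
    · exact absurd (mem_cent1.1 (h.top_le _ (mem_cent1.2 (g.cm _ g.q1.xm1 _ g.q2.xm1)) (mem_cent1.2 g.uζ) d4 e
        (mem_top (_ ^ (0 : ℤ) * (w * y))))).symm (g.q2.nc 0)

theorem le (h' : Std E k x y z u w β) : F ≤ E := by
  obtain ⟨D, d1, d2, -, d4⟩ := h.hyp.exists_D
  refine h.gen E (fun P σ h1 h2 h3 => le_iff_isMap.1 (h.gs.le_of_ex d1 d2 h'.ex.1 h'.ex.2) _ _ (d4 P σ h1 h2 h3))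
    (h'.map.congr fun s hs => ?_)
  induction hs using closure_induction with
  | mem s hs =>
    rcases hs with rfl | rfl | rfl
    exacts [h.ax.trans h'.ax.symm, h.au.trans h'.au.symm, h.aw.trans h'.aw.symm]
  | one => rw [h.map.homOn.map_one, h'.map.homOn.map_one]
  | mul s t hs ht h1 h2 => rw [h.map.homOn hs ht, h'.map.homOn hs ht, h1, h2]
  | inv s hs h1 => rw [h.map.homOn.map_inv hs, h'.map.homOn.map_inv hs, h1]

end Std

end Cfsg.Agent.Wz
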