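import Cfsg.Agent.Wz.V1
import Cfsg.Agent.Wz.U3

/-! Uniqueness of the standard system. -/

set_option autoImplicit false

namespace Cfsg.Agent.Wz

universe u v

instance instUNI : UNI.{u, v} := ⟨fun h h' =>
  let ⟨_, _, θ, θ', t, hE⟩ := h.transport h'
  ⟨θ, θ', FusionSystem.eq_of_le_of_ge (hE.le h) (h.le hE) ▸ t⟩⟩

end Cfsg.Agent.Wz
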