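import Cfsg.Agent.Wz.I
import Cfsg.Agent.FT.Basic4

/-! Generalized quaternion groups `⟨x, y⟩` of order at least `16` inside a finite group. -/

set_option autoImplicit false
set_option linter.unusedSectionVars false

namespace Cfsg.Agent.Wz

open Subgroup Equiv Cfsg.Fus Cfsg.Agent.FT

variable {G : Type*} [Group G] [Finite G] {k : ℕ} {x y z r s g : G} {a b i j : ℤ} {P : Subgroup G} {τ : Perm G}

theorem exists_inv2 (hG : IsPGroup 2 G) (hg : g ≠ 1) : ∃ n : ℕ, g ^ n * g ^ n = 1 ∧ g ^ n ≠ 1 := by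
  obtain ⟨n, h1, h2⟩ := Nat.exists_not_and_succ_of_not_zero_of_exists (p := fun n => g ^ 2 ^ n = 1)
    (by simpa using hg) (hG g)
  exact ⟨_, by rw [← sq, ← pow_mul, ← pow_succ, h2], h1⟩

structure QG (k : ℕ) (x y z : G) : Prop where
  k2 : 2 ≤ k
  ox : orderOf x = 2 ^ (k + 1)
  hz : z = x ^ 2 ^ k
  yx : y * x * y⁻¹ = x⁻¹
  yy : y * y = z

theorem Hyp.qg {F : FusionSystem (⊤ : Subgroup G)} (h : Hyp F k x y z) : QG k x y z :=
  ⟨h.k2, h.ox, h.hz, h.yx, h.yy⟩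

theorem ord_iff (o : orderOf g = 2 ^ (k + 1)) : g ^ a = g ^ b ↔ (2 : ℤ) ^ (k + 1) ∣ a - b := by
  rw [zpow_eq_zpow_iff_modEq, o, Int.modEq_comm, Int.modEq_iff_dvd]; norm_num

theorem ord_one (o : orderOf g = 2 ^ (k + 1)) : g ^ a = 1 ↔ (2 : ℤ) ^ (k + 1) ∣ a := by
  rw [← zpow_zero g, ord_iff o, sub_zero]

theorem odd_dvd {n : ℕ} (hi : Odd i) (h : (2 : ℤ) ^ n ∣ i * a) : (2 : ℤ) ^ n ∣ a :=
  (Int.isCoprime_two_left.2 hi).pow_left.dvd_of_dvd_mul_left h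

theorem odd_inv (n : ℕ) (hi : Odd i) : ∃ j, Odd j ∧ (2 : ℤ) ^ (n + 1) ∣ i * j - 1 := by
  obtain ⟨a, b, e⟩ := (Int.isCoprime_two_left.2 hi).pow_left (m := n + 1)
  refine ⟨b, ?_, -a, by linear_combination e⟩
  have : Odd (b * i) := ⟨-a * 2 ^ n, by rw [pow_succ] at e; linear_combination e⟩
  exact (Int.odd_mul.1 this).1

theorem gen_odd (o : orderOf g = 2 ^ (k + 1)) (hi : Odd i) : ∃ j : ℤ, Odd j ∧ (g ^ i) ^ j = g := by
  obtain ⟨j, h1, h2⟩ := odd_inv k hi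
  exact ⟨j, h1, by rw [← zpow_mul, ← zpow_one g, ← zpow_mul, ord_iff o]; simpa using h2⟩

theorem odd_of_ord (o : orderOf g = 2 ^ (k + 1)) (o' : orderOf (g ^ i) = 2 ^ (k + 1)) : Odd i := by
  rcases Int.even_or_odd i with ⟨a, rfl⟩ | h
  · have : (g ^ (a + a)) ^ (2 ^ k : ℤ) = 1 := by
      rw [← zpow_mul, ord_one o]; exact ⟨a, by ring⟩
    have := Int.le_of_dvd (by positivity) ((ord_one o').1 this)
    rw [pow_succ] at this
    nlinarith [pow_pos (two_pos (α := ℤ)) k]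
  · exact h

theorem ord_odd (o : orderOf g = 2 ^ (k + 1)) (hi : Odd i) : orderOf (g ^ i) = 2 ^ (k + 1) := by
  obtain ⟨j, -, e⟩ := gen_odd o hi
  exact o ▸ Nat.dvd_antisymm (orderOf_dvd_of_mem_zpowers (zpow_mem_zpowers _ _))
    (orderOf_dvd_of_mem_zpowers ⟨j, e⟩)

theorem cjz (e : s * g * s⁻¹ = g ^ i) (a : ℤ) : s * g ^ a * s⁻¹ = g ^ (i * a) := by
  rw [← conj_zpow, e, zpow_mul]

namespace QG
variable (h : QG k x y z)
include h

theorem ev (e : (2 : ℤ) ^ (k + 1) ∣ a) : (8 : ℤ) ∣ a :=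
  (pow_dvd_pow (2 : ℤ) (show 3 ≤ k + 1 by have := h.k2; omega)).trans e

theorem hz' : z = x ^ (2 ^ k : ℤ) := by rw [h.hz, ← zpow_natCast]; norm_num

theorem zz : z * z = 1 := by
  rw [h.hz', ← zpow_add, ord_one h.ox]; exact ⟨1, by ring⟩

theorem z2 : z ^ (2 : ℤ) = 1 := (zpow_two z).trans h.zz

theorem zi : z⁻¹ = z := inv_eq_of_mul_eq_one_right h.zz

theorem z1 : z ≠ 1 := fun e => by
  have := Int.le_of_dvd (by positivity) ((ord_one h.ox).1 (h.hz' ▸ e))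
  rw [pow_succ] at this
  nlinarith [pow_pos (two_pos (α := ℤ)) k]

theorem zx : Commute z x := h.hz ▸ (Commute.refl x).pow_left _

theorem zy : Commute z y := h.yy ▸ (Commute.refl y).mul_left (Commute.refl y)

theorem yz (a : ℤ) : y * x ^ a = x ^ (-a) * y := by
  rw [← mul_inv_eq_iff_eq_mul, ← conj_zpow, h.yx, inv_zpow']

theorem yi : y⁻¹ = z * y := by
  rw [inv_eq_iff_mul_eq_one, h.zy.eq, ← mul_assoc, h.yy, h.zz]

theorem mul2 (a b : ℤ) : x ^ a * y * (x ^ b * y) = x ^ (a - b) * z := by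
  rw [mul_assoc, ← mul_assoc y, h.yz, mul_assoc, h.yy, ← mul_assoc, ← zpow_add, sub_eq_add_neg]

theorem sq (a : ℤ) : x ^ a * y * (x ^ a * y) = z := by simp [h.mul2]

theorem inv2 (a : ℤ) : (x ^ a * y)⁻¹ = x ^ (a + 2 ^ k) * y := by
  rw [inv_eq_iff_mul_eq_one, h.mul2, h.hz', ← zpow_add]; simp

theorem mem : r ∈ closure {x, y} ↔ ∃ a : ℤ, r = x ^ a ∨ r = x ^ a * y := by
  have hx : x ∈ closure ({x, y} : Set G) := subset_closure (by simp)
  refine ⟨fun hr => ?_, ?_⟩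
  · induction hr using closure_induction with
    | mem r hr => rcases hr with rfl | rfl; exacts [⟨1, by simp⟩, ⟨0, by simp⟩]
    | one => exact ⟨0, by simp⟩
    | mul r s _ _ h1 h2 =>
      obtain ⟨a, rfl | rfl⟩ := h1 <;> obtain ⟨b, rfl | rfl⟩ := h2
      exacts [⟨_, .inl (zpow_add ..).symm⟩, ⟨a + b, .inr (by group)⟩,
        ⟨a - b, .inr (by rw [mul_assoc, h.yz]; group)⟩, ⟨_, .inl (by rw [h.mul2, h.hz', ← zpow_add])⟩]
    | inv r _ h1 =>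
      obtain ⟨a, rfl | rfl⟩ := h1
      exacts [⟨-a, .inl (by group)⟩, ⟨_, .inr (h.inv2 a)⟩]
  · rintro ⟨a, rfl | rfl⟩
    exacts [zpow_mem hx a, mul_mem (zpow_mem hx a) (subset_closure (by simp))]

theorem xm (a : ℤ) : x ^ a ∈ closure {x, y} := h.mem.2 ⟨a, .inl rfl⟩

theorem ym (a : ℤ) : x ^ a * y ∈ closure {x, y} := h.mem.2 ⟨a, .inr rfl⟩

theorem xm1 : x ∈ closure {x, y} := by simpa using h.xm 1

theorem ym1 : y ∈ closure {x, y} := by simpa using h.ym 0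

theorem zm : z ∈ closure {x, y} := h.hz' ▸ h.xm _

theorem comm_iff : Commute (x ^ a) (x ^ b * y) ↔ x ^ a * x ^ a = 1 := by
  rw [Commute, SemiconjBy, mul_assoc (x ^ b), h.yz, ← mul_assoc, ← mul_assoc, mul_left_inj, zpow_mul_comm x a,
    mul_right_inj, zpow_neg, eq_inv_iff_mul_eq_one]

theorem half (e : x ^ a * x ^ a = 1) : x ^ a = 1 ∨ x ^ a = z := by
  rw [← zpow_add, ord_one h.ox, ← two_mul, pow_succ'] at e
  obtain ⟨c, rfl⟩ := Int.dvd_of_mul_dvd_mul_left two_ne_zero e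
  rw [zpow_mul, ← h.hz']
  rcases Int.even_or_odd' c with ⟨c, rfl | rfl⟩ <;> simp [zpow_add, zpow_mul, h.z2]

theorem x2 : ¬ x * x = 1 := fun e => by
  have := h.ev ((ord_one h.ox (a := 2)).1 (by rw [zpow_two, e])); omega

theorem nc (b : ℤ) : ¬ Commute x (x ^ b * y) := by simpa [h.x2] using h.comm_iff (a := 1) (b := b)

theorem ne : x ^ a ≠ x ^ b * y := fun e => h.nc b (e ▸ (Commute.refl x).zpow_right a)

theorem invol (hr : r ∈ closure {x, y}) (e : r * r = 1) : r = 1 ∨ r = z := by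
  obtain ⟨a, rfl | rfl⟩ := h.mem.1 hr
  exacts [h.half e, absurd ((h.sq a).symm.trans e) h.z1]

theorem zc (hr : r ∈ closure {x, y}) : Commute z r := by
  obtain ⟨a, rfl | rfl⟩ := h.mem.1 hr
  exacts [h.zx.zpow_right a, (h.zx.zpow_right a).mul_right h.zy]

theorem pow_z (hG : IsPGroup 2 G) (hr : r ∈ closure {x, y}) (r1 : r ≠ 1) : ∃ n : ℕ, r ^ n = z :=
  let ⟨n, h1, h2⟩ := exists_inv2 hG r1
  ⟨n, (h.invol (pow_mem hr n) h1).resolve_left h2⟩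

theorem of_ord (hr : r ∈ closure {x, y}) (o : orderOf r = 2 ^ (k + 1)) : ∃ i : ℤ, Odd i ∧ r = x ^ i := by
  obtain ⟨a, rfl | rfl⟩ := h.mem.1 hr
  · exact ⟨a, odd_of_ord h.ox o, rfl⟩
  · have := h.ev ((ord_one o (a := 2 + 2)).1 (by rw [zpow_add, zpow_two, h.sq, h.zz])); omega

theorem act' {f : G → G} (h1 : HomOn f P) (h2 : Set.InjOn f P) (hP : closure {x, y} ≤ P)
    (h3 : ∀ r ∈ closure {x, y}, f r ∈ closure {x, y}) : ∃ i j : ℤ, Odd i ∧ f x = x ^ i ∧ f y = x ^ j * y := by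
  obtain ⟨i, hi, e⟩ := h.of_ord (h3 x h.xm1) ((h1.orderOf_eq h2 (hP h.xm1)).trans h.ox)
  obtain ⟨j, e' | e'⟩ := h.mem.1 (h3 y h.ym1)
  · refine absurd (h2 (hP (mul_mem h.xm1 h.ym1)) (hP (mul_mem h.ym1 h.xm1)) ?_) (by simpa [Commute, SemiconjBy] using h.nc 0)
    rw [h1 (hP h.xm1) (hP h.ym1), h1 (hP h.ym1) (hP h.xm1), e, e', zpow_mul_comm]
  · exact ⟨i, j, hi, e, e'⟩

theorem zpow (hi : Odd i) : QG k (x ^ i) y z := by
  refine ⟨h.k2, ord_odd h.ox hi, ?_, by rw [← conj_zpow, h.yx, inv_zpow], h.yy⟩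
  obtain ⟨c, rfl⟩ := hi
  rw [← zpow_natCast, ← zpow_mul, mul_comm, zpow_mul, zpow_natCast, ← h.hz]
  simp [zpow_add, zpow_mul, h.z2]

theorem closure_zpow (hi : Odd i) : closure {x ^ i, y} = closure {x, y} := by
  obtain ⟨j, -, e⟩ := gen_odd h.ox hi
  have := (h.zpow hi).xm j
  rw [e] at this
  refine le_antisymm ((closure_le _).2 ?_) ((closure_le _).2 ?_) <;> rintro _ (rfl | rfl)
  exacts [h.xm i, h.ym1, this, (h.zpow hi).ym1]

theorem card : Nat.card (closure {x, y} : Subgroup G) = 2 ^ (k + 2) := by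
  have hl : zpowers x ≤ closure {x, y} := zpowers_le.2 h.xm1
  rw [← card_mul_index ((zpowers x).subgroupOf _), Nat.card_congr (subgroupOfEquivOfLe hl).toEquiv,
    Nat.card_zpowers, h.ox, index_eq_two_iff.2 ⟨⟨y, h.ym1⟩, fun r => ?_⟩, ← pow_succ]
  obtain ⟨a, e | e⟩ := h.mem.1 r.2
  · exact .inr ⟨⟨a, e.symm⟩, fun ⟨b, e'⟩ => h.ne (e'.trans (congrArg (· * y) e))⟩
  · exact .inl ⟨⟨a + 2 ^ k, by simp [e, zpow_add, ← h.hz', mul_assoc, h.yy]⟩, fun ⟨b, e'⟩ => h.ne (e'.trans e)⟩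

theorem cent (hs : s * x * s⁻¹ = x ∨ s * x * s⁻¹ = x⁻¹) (h1 : Commute s (x ^ a)) (h2 : x ^ a * x ^ a ≠ 1) :
    Commute s x := by
  refine hs.elim mul_inv_eq_iff_eq_mul.1 fun e => absurd ?_ h2
  rw [← eq_inv_iff_mul_eq_one, ← inv_zpow, ← e, conj_zpow, h1.eq, mul_inv_cancel_right]

end QG

end Cfsg.Agent.Wz
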