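import Cfsg.Agent.Wz.A
import Cfsg.Agent.H9.FactorSat
import Cfsg.Agent.H7.More

/-! The subgroups `Q_t`; the quasidihedral case. -/

set_option autoImplicit false
set_option linter.unusedSectionVars false

namespace Cfsg.Agent.Wz

open Subgroup Equiv Cfsg.Fus Cfsg.Agent.FT Cfsg.FusionSystem

variable {G : Type*} [Group G] [Finite G] {k : ℕ} {x y z r s g t u v w : G} {a b i j : ℤ} {P Q : Subgroup G}
  {σ τ φ ψ : Perm G} {F E : FusionSystem (⊤ : Subgroup G)}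

/-- `t` is conjugate to `z` -/
def Zc (F : FusionSystem (⊤ : Subgroup G)) (z t : G) : Prop := ∃ P, ∃ σ : Perm G, F.IsMap P σ ∧ t ∈ P ∧ σ t = z

/-- `v ∈ Q_t` -/
def In (F : FusionSystem (⊤ : Subgroup G)) (x y z t v : G) : Prop :=
  ∃ P, ∃ σ : Perm G, F.IsMap P σ ∧ t ∈ P ∧ v ∈ P ∧ σ t = z ∧ σ v ∈ closure {x, y}

def Big (x y z t : G) : Prop := ∃ r ∈ closure ({x, y} : Set G), r * r = z ∧ Commute r t

theorem mem_cz : g ∈ centralizer (zpowers t : Set G) ↔ g ∈ 𝐂[t] := by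
  rw [← zpowers_le, zpowers_le_centralizer_iff, ← zpowers_le_centralizer_iff, ← le_centralizer_iff,
    zpowers_le, mem_cent1, mem_centralizer_iff]
  exact ⟨fun h => h g (mem_zpowers g), by rintro h _ ⟨n, rfl⟩; exact (Commute.zpow_left h n).eq⟩

theorem cjm (F : FusionSystem (⊤ : Subgroup G)) (g : G) : F.IsMap ⊤ (cj g) := F.isMap_cj le_rfl trivial

theorem div_map (h1 : F.IsMap P σ) (h2 : F.IsMap Q ψ) : F.IsMap (img ψ (P ⊓ Q)) ⇑(σ * ψ⁻¹) :=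
  (h2.mono inf_le_right).inv.mul h1 fun _ hx => ((h2.mono inf_le_right).homOn.mem_img_perm.1 hx).1

theorem In.map (h : In F x y z t v) (hψ : F.IsMap Q ψ) (ht : t ∈ Q) (hv : v ∈ Q) : In F x y z (ψ t) (ψ v) :=
  let ⟨_, _, h1, h2, h3, h4, h5⟩ := h
  ⟨_, _, div_map h1 hψ, mem_img_of_mem _ ⟨h2, ht⟩, mem_img_of_mem _ ⟨h3, hv⟩, by simpa using h4, by simpa using h5⟩

theorem Zc.map (h : Zc F z t) (hψ : F.IsMap Q ψ) (ht : t ∈ Q) : Zc F z (ψ t) :=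
  let ⟨_, _, h1, h2, h4⟩ := h
  ⟨_, _, div_map h1 hψ, mem_img_of_mem _ ⟨h2, ht⟩, by simpa using h4⟩

theorem Zc.conj (h : Zc F z t) (g : G) : Zc F z (g * t * g⁻¹) := h.map (cjm F g) trivial

theorem In.conj (h : In F x y z t v) (g : G) : In F x y z (g * t * g⁻¹) (g * v * g⁻¹) :=
  h.map (cjm F g) trivial trivial

theorem In.zc (h : In F x y z t v) : Zc F z t := let ⟨P, σ, h1, h2, _, h4, _⟩ := h; ⟨P, σ, h1, h2, h4⟩

theorem zc_z : Zc F z z := ⟨⊤, 1, F.isMap_one le_rfl, trivial, rfl⟩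

theorem in_z (hr : r ∈ closure {x, y}) : In F x y z z r := ⟨⊤, 1, F.isMap_one le_rfl, trivial, trivial, rfl, hr⟩

theorem _root_.Cfsg.FusionSystem.IsMap.comm (h : F.IsMap P σ) (hr : r ∈ P) (hs : s ∈ P) :
    Commute (σ r) (σ s) ↔ Commute r s := by
  rw [Commute, SemiconjBy, ← h.homOn hr hs, ← h.homOn hs hr, σ.apply_eq_iff_eq]; rfl

namespace Hyp
variable (h : Hyp F k x y z)
include h

theorem pG : IsPGroup 2 G := h.pS.of_equiv topEquiv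

theorem cm (s : G) (hr : r ∈ closure {x, y}) : s * r * s⁻¹ ∈ closure {x, y} :=
  conj_mem_of_mem_normalizer (h.nrm trivial) hr

theorem act (s : G) : ∃ i j : ℤ, Odd i ∧ s * x * s⁻¹ = x ^ i ∧ s * y * s⁻¹ = x ^ j * y :=
  h.qg.act' (homOn_cj s ⊤) (cj s).injective.injOn le_top fun _ => h.cm s

theorem zs (s : G) : Commute z s := by
  refine (mul_inv_eq_iff_eq_mul.1 ((h.qg.invol (h.cm s h.qg.zm) ?_).resolve_left ?_)).symm
  · rw [conj_mul, h.qg.zz]; simp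
  · simpa using h.qg.z1

theorem zA (t : G) : z ∈ 𝐂[t] := mem_cent1.2 (h.zs t)

theorem zpow (hi : Odd i) : Hyp F k (x ^ i) y z :=
  have e := h.qg.closure_zpow hi
  have c : ∀ {g : G}, Commute g (x ^ i) → Commute g x := fun hg => by
    obtain ⟨j, -, e⟩ := gen_odd h.ox hi
    exact e ▸ hg.zpow_right j
  ⟨h.pS, h.sat, h.k2, trivial, trivial, (h.qg.zpow hi).ox, (h.qg.zpow hi).hz, (h.qg.zpow hi).yx, h.yy,
    e ▸ h.nrm, e ▸ h.sc, fun P f h1 h2 h3 => h.wc P f h1 h2 (c h3), fun w h1 h2 h3 => h.iso w h1 h2 (c h3), h.foc⟩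

theorem tt (ht : Zc F z t) : t * t = 1 ∧ t ≠ 1 := by
  obtain ⟨P, σ, h1, h2, rfl⟩ := ht
  exact ⟨(h1.apply_eq_one (mul_mem h2 h2)).1 ((h1.homOn h2 h2).trans h.qg.zz),
    fun e => h.qg.z1 ((h1.apply_eq_one h2).2 e)⟩

theorem fc : F.IsFullyCentralized (zpowers z) :=
  ⟨le_top, fun Q _ => card_le_of_le fun g _ => ⟨trivial, mem_cz.2 (mem_cent1.2 (h.zs g).symm)⟩⟩

theorem phi (ht : Zc F z t) : ∃ φ : Perm G, F.IsMap 𝐂[t] φ ∧ φ t = z := by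
  obtain ⟨P, σ, h1, h2, e⟩ := ht
  have h3 := h1.mono (zpowers_le.2 h2)
  obtain ⟨τ, h4, h5⟩ := (h.fc.isReceptive h.sat h.pS).exists_ext_centralizer
    (h3.iso_of_img (e ▸ h3.homOn.img_zpowers))
  exact ⟨τ, h4.mono fun g hg => mem_sup_right ⟨trivial, mem_cz.2 hg⟩, (h5 t (mem_zpowers t)).trans e⟩

theorem in_mem (hv : In F x y z t v) (hψ : F.IsMap Q ψ) (ht : t ∈ Q) (hq : v ∈ Q) (e : ψ t = z) :
    ψ v ∈ closure {x, y} := by
  obtain ⟨P, σ, h1, h2, h3, h4, h5⟩ := hv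
  simpa using h.sc _ _ (div_map hψ h1) (h4 ▸ mem_img_of_mem _ ⟨ht, h2⟩) (by simp [← h4, e]) _
    (mem_img_of_mem _ ⟨hq, h3⟩) h5

theorem in_comm (hv : In F x y z t v) : v ∈ 𝐂[t] :=
  let ⟨_, _, h1, h2, h3, h4, _⟩ := hv
  mem_cent1.2 ((h1.comm h3 h2).1 (h4 ▸ (h.zs _).symm))

theorem disj (hv : In F x y z t v) (hr : v ∈ closure {x, y}) (tz : t ≠ z) : v = 1 := by
  by_contra e
  obtain ⟨n, e⟩ := h.qg.pow_z h.pG hr e
  obtain ⟨P, σ, h1, h2, h3, h4, h5⟩ := hv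
  have hz : z ∈ P := e ▸ pow_mem h3 n
  have h6 := h.tt (zc_z.map h1 hz)
  exact tz (σ.injective (h4.trans ((h.qg.invol (by rw [← e, h1.homOn.map_pow h3]; exact pow_mem h5 n)
    h6.1).resolve_left h6.2).symm))

theorem cent (hv : In F x y z t v) (tz : t ≠ z) (hr : r ∈ closure {x, y}) (c : Commute r t) : Commute v r := by
  obtain ⟨φ, h1, h2⟩ := h.phi hv.zc
  have h3 := hv.conj r
  rw [c.eq, mul_inv_cancel_right] at h3
  have m1 := h.in_comm hv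
  have m2 := h.in_comm h3
  have := h.disj (v := v * (r * v * r⁻¹)⁻¹) ⟨_, φ, h1, self_mem_cent1 t, mul_mem m1 (inv_mem m2), h2, by
    rw [h1.homOn m1 (inv_mem m2), h1.homOn.map_inv m2]
    exact mul_mem (h.in_mem hv h1 (self_mem_cent1 t) m1 h2) (inv_mem (h.in_mem h3 h1 (self_mem_cent1 t) m2 h2))⟩
    (by simpa [mul_assoc] using mul_mem (h.cm v hr) (inv_mem hr)) tz
  exact (mul_inv_eq_iff_eq_mul.1 (mul_inv_eq_one.1 this).symm).symm

theorem sq_comm (hv : In F x y z t v) (tz : t ≠ z) (e : v * v = t) : Commute t x := by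
  obtain ⟨i, -, ⟨c, rfl⟩, h1, -⟩ := h.act v
  have h2 : t * x * t⁻¹ = x ^ ((2 * c + 1) * (2 * c + 1)) := by rw [← cjz h1, ← h1, ← e]; group
  have h3 := cjz h2 ((2 * c + 1) * (2 * c + 1))
  rw [← h2, show t * (t * x * t⁻¹) * t⁻¹ = t * t * x * (t * t)⁻¹ by group, (h.tt hv.zc).1, one_mul, inv_one,
    mul_one, ← zpow_one x, ← zpow_mul, ord_iff h.ox] at h3
  have h4 : (2 : ℤ) ^ (k + 1) ∣ 8 * c * (c + 1) :=
    odd_dvd (i := -(2 * c * c + 2 * c + 1)) ⟨-(c * c + c + 1), by ring⟩ (by convert h3 using 1; ring)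
  have h5 := h.cent hv tz (h.qg.xm 2) (mul_inv_eq_iff_eq_mul.1 (by
    rw [cjz h2, ord_iff h.ox]; convert h4 using 1; ring)).symm
  have h6 := (cjz h1 2).symm.trans (mul_inv_eq_iff_eq_mul.2 h5)
  rw [ord_iff h.ox] at h6
  refine mul_inv_eq_iff_eq_mul.1 (h2.trans ?_)
  rw [← zpow_one x, ← zpow_mul, ord_iff h.ox]
  obtain ⟨d, e⟩ := h6
  exact ⟨d * (c + 1), by linear_combination (c + 1) * e⟩

theorem ny (ht : Zc F z t) (tz : t ≠ z) (c : Commute t x) : ¬ Commute t y := fun c' => by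
  obtain ⟨P, σ, h1, h2, e⟩ := ht
  have e' : σ⁻¹ z = t := by simp [← e]
  exact tz (e' ▸ h.wc _ _ h1.inv (e ▸ mem_img_of_mem _ h2) (e' ▸ c) (e' ▸ c'))

theorem nbig (ht : t * t = 1) (hb : ¬ Big x y z t) :
    t * x * t⁻¹ = x⁻¹ ∧ ∃ j : ℤ, Odd j ∧ t * y * t⁻¹ = x ^ j * y := by
  obtain ⟨i, j, ⟨c, rfl⟩, h1, h2⟩ := h.act t
  obtain ⟨m, rfl⟩ : ∃ m, k = m + 1 := ⟨k - 1, by have := h.k2; omega⟩
  have hc : Odd c := by
    refine Int.not_even_iff_odd.1 fun ⟨d, e⟩ => hb ⟨_, h.qg.xm (2 ^ m), ?_, (mul_inv_eq_iff_eq_mul.1 ?_).symm⟩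
    · rw [h.qg.hz', ← zpow_add, pow_succ, mul_two]
    · rw [cjz h1, ord_iff h.ox]; exact ⟨d, by rw [e]; ring⟩
  have hj : Odd j := by
    obtain ⟨n, -, d, e⟩ := odd_inv (m + 1) hc
    refine Int.not_even_iff_odd.1 fun ⟨l, e'⟩ => hb ⟨_, h.qg.ym (-(l * n)), h.qg.sq _,
      (mul_inv_eq_iff_eq_mul.1 ?_).symm⟩
    rw [← conj_mul, cjz h1, h2, ← mul_assoc, ← zpow_add, mul_left_inj, ord_iff h.ox]
    exact ⟨-2 * l * d, by rw [e']; linear_combination -2 * l * e⟩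
  refine ⟨?_, j, hj, h2⟩
  have h3 : t * (t * y * t⁻¹) * t⁻¹ = y := by
    rw [show t * (t * y * t⁻¹) * t⁻¹ = t * t * y * (t * t)⁻¹ by group, ht]; simp
  rw [h2, ← conj_mul, cjz h1, h2, ← mul_assoc, ← zpow_add, mul_eq_right, ord_one h.ox] at h3
  rw [h1, ← zpow_neg_one, ord_iff h.ox]
  exact odd_dvd hj (by convert h3 using 1; ring)

/-- the centralizer system of `z` -/
theorem exists_D : ∃ D : FusionSystem (⊤ : Subgroup G), D.IsSaturated 2 ∧ D.StronglyClosed (closure {x, y}) ∧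
    (∀ P (σ : Perm G), D.IsMap P σ → F.IsMap P σ ∧ (z ∈ P → σ z = z)) ∧
    ∀ P (σ : Perm G), F.IsMap P σ → z ∈ P → σ z = z → D.IsMap P σ := by
  have e : kN ⊤ (zpowers z) (fixP (zpowers z)) = (⊤ : Subgroup G) := by
    rw [kN_fixP]; exact eq_top_iff.2 fun g _ => ⟨trivial, mem_cz.2 (mem_cent1.2 (h.zs g).symm)⟩
  obtain ⟨D, hD⟩ : ∃ D : FusionSystem (⊤ : Subgroup G), F.IsKSys (zpowers z) (fixP (zpowers z)) D := by
    have := F.isKSys_kSys (Q := zpowers z) le_top le_rfl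
    generalize F.kSys _ _ _ _ = D at this
    revert D; rw [e]; exact fun D h => ⟨D, h⟩
  refine ⟨D, hD.isSaturated h.sat h.pS (kNorm_fixP_iff.2 h.fc) le_rfl, stronglyClosed_of_perm le_top
    fun P σ h1 r h2 h3 => ?_, fun P σ h1 => ⟨hD.isSubsystemOf.isMap h1, fun hz => ?_⟩, fun P σ h1 hz e' => ?_⟩
  · obtain ⟨τ, t1, t2, -, t3⟩ := hD.exists_ext h1
    exact t2 r h2 ▸ h.sc _ _ t1 (mem_sup_right (mem_zpowers z)) (t3 z (mem_zpowers z)) r (mem_sup_left h2) h3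
  · obtain ⟨τ, -, t2, -, t3⟩ := hD.exists_ext h1
    exact (t2 z hz).symm.trans (t3 z (mem_zpowers z))
  · have : σ ∈ fixP (zpowers z) := by
      rintro _ ⟨n, rfl⟩
      rw [h1.homOn.map_zpow hz, e']
    exact hD.isMap_of h1 le_rfl (zpowers_le.2 hz) le_top (fixP_le_setStab _ this) this

theorem ext_R (h1 : F.IsMap P σ) (hz : z ∈ P) (e : σ z = z) : ∃ τ : Perm G, F.IsMap (P ⊔ closure {x, y}) τ ∧
    (∀ r ∈ closure {x, y}, τ r ∈ closure {x, y}) ∧ ∀ g ∈ P, (τ g)⁻¹ * σ g ∈ closure {x, y} := by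
  obtain ⟨D, d1, d2, d3, d4⟩ := h.exists_D
  obtain ⟨τ, t1, t2⟩ := d2.exists_ext_mod d1 h.pS (d4 P σ h1 hz e)
  exact ⟨τ, (d3 _ _ t1).1, fun r hr => d2.mem t1 (mem_sup_right hr) hr, t2⟩

theorem all_conj (ht : Zc F z t) (hb : ¬ Big x y z t) (a : ℤ) : Zc F z (x ^ a * t) := by
  obtain ⟨h1, j, ⟨c, rfl⟩, h2⟩ := h.nbig (h.tt ht).1 hb
  have h3 : ∀ b : ℤ, ∀ n : ℤ, x ^ n * (x ^ b * t) * (x ^ n)⁻¹ = x ^ (b + 2 * n) * t := fun b n => by
    have := cjz (s := t) (g := x) (i := -1) (by simpa using h1) (-n)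
    rw [mul_inv_eq_iff_eq_mul] at this
    rw [← zpow_neg, mul_assoc, mul_assoc, this]; group
  have h4 : y * t * y⁻¹ = x ^ (-(2 * c + 1)) * t := by
    have e : t⁻¹ = t := inv_eq_of_mul_eq_one_right (h.tt ht).1
    rw [zpow_neg, eq_inv_mul_iff_mul_eq, ← mul_assoc, ← mul_assoc, ← h2, e, mul_assoc _ t t, (h.tt ht).1]; simp
  rcases Int.even_or_odd' a with ⟨n, rfl | rfl⟩
  · have := h3 0 n ▸ (show Zc F z (x ^ (0 : ℤ) * t) by simpa using ht).conj (x ^ n)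
    rwa [zero_add] at this
  · have := (ht.conj y).conj (x ^ (n + c + 1))
    rwa [h4, h3, show -(2 * c + 1) + 2 * (n + c + 1) = 2 * n + 1 by ring] at this

end Hyp

end Cfsg.Agent.Wz
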