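import Cfsg.Agent.Wz.J

/-! The torus `T = ⟨x, u⟩` and the automorphism `α`. -/

set_option autoImplicit false
set_option linter.unusedSectionVars false

namespace Cfsg.Agent.Wz

open Subgroup Equiv Cfsg.Fus Cfsg.Agent.FT Cfsg.FusionSystem

variable {G : Type*} [Group G] [Finite G] {k : ℕ} {x y z r s g t u v w : G} {a b i j : ℤ} {P Q : Subgroup G}
  {σ τ φ ψ α : Perm G} {F E : FusionSystem (⊤ : Subgroup G)}

theorem In.zpow (h : In F x y z t v) (n : ℤ) : In F x y z t (v ^ n) :=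
  let ⟨P, σ, h1, h2, h3, h4, h5⟩ := h
  ⟨P, σ, h1, h2, zpow_mem h3 n, h4, h1.homOn.map_zpow h3 n ▸ zpow_mem h5 n⟩

structure Pre (F : FusionSystem (⊤ : Subgroup G)) (k : ℕ) (x y z t u : G) : Prop where
  hyp : Hyp F k x y z
  inn : In F x y z t u
  ou : orderOf u = 2 ^ (k + 1)
  tz : t ≠ z

theorem Hyp.pre (h : Hyp F k x y z) (h1 : F.IsMap 𝐂[t] φ) (e : φ t = z) (tz : t ≠ z) (c : Commute t x) :
    Pre F k x y z (φ z) (φ x) :=
  have m := mem_cent1.2 c.symm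
  ⟨h, (in_z h.qg.xm1).map h1 (h.zA t) m, (h1.orderOf_eq m).trans h.ox, fun e' => tz (φ.injective (e.trans e'.symm))⟩

theorem Hyp.big (h : Hyp F k x y z) (h1 : F.IsMap 𝐂[t] φ) (e : φ t = z) (tz : t ≠ z) (hb : Big x y z t) :
    φ z ≠ z ∧ Commute (φ z) x :=
  let ⟨_, hr, e', c⟩ := hb
  have m := mem_cent1.2 c
  have n : φ z ≠ z := fun e' => tz (φ.injective (e.trans e'.symm))
  ⟨n, h.sq_comm ((in_z hr).map h1 (h.zA t) m) n (by rw [← h1.homOn m m, e'])⟩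

namespace Pre
variable (h : Pre F k x y z t u)
include h

theorem uA : u ∈ 𝐂[t] := h.hyp.in_comm h.inn

theorem phi_u (h1 : F.IsMap 𝐂[t] φ) (e : φ t = z) : ∃ i : ℤ, Odd i ∧ φ u = x ^ i :=
  h.hyp.qg.of_ord (h.hyp.in_mem h.inn h1 (self_mem_cent1 t) h.uA e) ((h1.orderOf_eq h.uA).trans h.ou)

theorem ut : t = u ^ (2 ^ k : ℤ) := by
  obtain ⟨φ, h1, e⟩ := h.hyp.phi h.inn.zc
  obtain ⟨i, hi, e'⟩ := h.phi_u h1 e
  exact φ.injective (by rw [h1.homOn.map_zpow h.uA, e', e, ← (h.hyp.qg.zpow hi).hz'])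

theorem tx : Commute t x := by
  obtain ⟨m, rfl⟩ : ∃ m, k = m + 1 := ⟨k - 1, by have := h.hyp.k2; omega⟩
  exact h.hyp.sq_comm (h.inn.zpow (2 ^ m)) h.tz (by rw [h.ut, ← zpow_add, pow_succ, mul_two])

theorem xA : x ∈ 𝐂[t] := mem_cent1.2 h.tx.symm

theorem ux : Commute u x := h.hyp.cent h.inn h.tz h.hyp.qg.xm1 h.tx.symm

theorem tt : t * t = 1 := (h.hyp.tt h.inn.zc).1

theorem gen (hv : In F x y z t v) : ∃ n : ℤ, v = u ^ n := by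
  obtain ⟨φ, h1, e⟩ := h.hyp.phi h.inn.zc
  obtain ⟨i, hi, e'⟩ := h.phi_u h1 e
  obtain ⟨j, -, ej⟩ := gen_odd h.hyp.ox hi
  have m := h.hyp.in_comm hv
  have c : ∀ g ∈ 𝐂[t], Commute (φ z) (φ g) := fun g hg => (h1.comm (h.hyp.zA t) hg).2 (h.hyp.zs g)
  obtain ⟨a, e2 | e2⟩ := h.hyp.qg.mem.1 (h.hyp.in_mem hv h1 (self_mem_cent1 t) m e)
  · exact ⟨j * a, φ.injective (by rw [h1.homOn.map_zpow h.uA, e', zpow_mul, ej, e2])⟩
  · have cx : Commute (φ z) x := ej ▸ (e' ▸ c u h.uA).zpow_right j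
    exact absurd (φ.injective (e.trans (h.hyp.wc _ _ h1 (h.hyp.zA t) cx
      (inv_mul_cancel_left (x ^ a) y ▸ (cx.zpow_right a).inv_right.mul_right (e2 ▸ c v m))).symm)) h.tz

theorem yc (hg : Commute g x) : ∃ j : ℤ, y * g * y⁻¹ = x ^ j * g := by
  obtain ⟨-, j, -, -, e⟩ := h.hyp.act g
  exact ⟨-j, by rw [zpow_neg, eq_inv_mul_iff_mul_eq, ← mul_assoc, ← mul_assoc, ← e]; group⟩

theorem yt : y * t * y⁻¹ = z * t := by
  obtain ⟨j, e⟩ := h.yc h.tx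
  have : x ^ j * x ^ j = 1 := by
    have := congrArg (fun g => g * g) e
    simp only [conj_mul, h.tt, mul_one, mul_inv_cancel] at this
    rwa [← (h.tx.zpow_right j).eq, mul_assoc, ← mul_assoc _ t, ← (h.tx.zpow_right j).eq, ← mul_assoc, ← mul_assoc,
      h.tt, one_mul, eq_comm] at this
  rcases h.hyp.qg.half this with e' | e' <;> rw [e'] at e
  exacts [absurd (mul_inv_eq_iff_eq_mul.1 (e.trans (one_mul t))) fun c =>
    h.hyp.ny h.inn.zc h.tz h.tx (Eq.symm c), e]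

theorem yA : F.Iso 𝐂[t] 𝐂[t] (cj y) := (cjm F y).mono le_top |>.iso_self fun g hg => by
  have e : t = y * (z * t) * y⁻¹ := by rw [← conj_mul, h.yt, h.hyp.qg.zy.symm.eq]; simp [← mul_assoc, h.hyp.qg.zz]
  rw [mem_cent1, e, cj_apply, conj_mul, conj_mul, ((h.hyp.zs g).symm.mul_right (mem_cent1.1 hg)).eq]

theorem zpow (hi : Odd i) : Pre F k x y z t (u ^ i) := ⟨h.hyp, h.inn.zpow i, ord_odd h.ou hi, h.tz⟩

theorem norm : ∃ u, Pre F k x y z t u ∧ y * u * y⁻¹ = x * u := by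
  obtain ⟨j, e⟩ := h.yc h.ux
  have e' : ∀ n : ℤ, y * u ^ n * y⁻¹ = (x ^ j) ^ n * u ^ n := fun n => by
    rw [← conj_zpow, e, (h.ux.symm.zpow_left j).mul_zpow]
  have hj : Odd j := by
    refine Int.not_even_iff_odd.1 fun ⟨c, hc⟩ => h.hyp.qg.z1 ?_
    have := e' (2 ^ k)
    rwa [← h.ut, h.yt, mul_left_inj, ← zpow_mul, (ord_one h.hyp.ox).2 ⟨c, by rw [hc]; ring⟩] at this
  obtain ⟨m, hm, e2⟩ := gen_odd h.hyp.ox hj
  exact ⟨_, h.zpow hm, by rw [e', e2]⟩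

theorem ind (e : x ^ a = u ^ b) : x ^ a = 1 := h.hyp.disj (e ▸ h.inn.zpow b) (h.hyp.qg.xm a) h.tz

theorem yg (hg : g ∈ 𝐂[t]) : ∃ a : ℤ, y * g * y⁻¹ = g * x ^ a := by
  obtain ⟨a, e | e⟩ := h.hyp.qg.mem.1 (mul_mem (h.hyp.cm g⁻¹ h.hyp.qg.ym1) (inv_mem h.hyp.qg.ym1))
  · exact ⟨a, by rw [← e]; group⟩
  · have := mul_mem (inv_mem hg) (h.yA.mem hg)
    rw [show g⁻¹ * cj y g = x ^ a * y by rw [← e, cj_apply]; group, mul_mem_cancel_left (zpow_mem h.xA a)] at this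
    exact absurd (Eq.symm (mem_cent1.1 this)) (h.hyp.ny h.inn.zc h.tz h.tx)

end Pre

structure Tri (F : FusionSystem (⊤ : Subgroup G)) (k : ℕ) (x y z t u : G) (α : Perm G) : Prop
    extends Pre F k x y z t u where
  yu : y * u * y⁻¹ = x * u
  map : F.Iso 𝐂[t] 𝐂[t] α
  au : α u = x
  ax : α x = (x * u)⁻¹
  dih : ∀ g ∈ 𝐂[t], α (y * α (y * g * y⁻¹) * y⁻¹) = g
  triv : ∀ g ∈ 𝐂[t], ∃ a b : ℤ, α g = g * (x ^ a * u ^ b)

theorem Hyp.tri (h : Hyp F k x y z) (hb : ∃ t, Zc F z t ∧ t ≠ z ∧ Big x y z t) :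
    ∃ t u α, Tri F k x y z t u α := by
  have ex : ∃ t, ∃ u, Pre F k x y z t u := by
    obtain ⟨t, h1, h2, h3⟩ := hb
    obtain ⟨φ, p1, p2⟩ := h.phi h1
    obtain ⟨ψ, p3, p4⟩ := h.phi (zc_z.map p1 (h.zA t))
    exact ⟨_, _, h.pre p3 p4 (h.big p1 p2 h2 h3).1 (h.big p1 p2 h2 h3).2⟩
  obtain ⟨t, ⟨u, hu⟩, mx⟩ := Set.exists_max_image {t | ∃ u, Pre F k x y z t u} (fun t => Nat.card 𝐂[t])
    (Set.toFinite _) ex
  obtain ⟨u, hu, yu⟩ := hu.norm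
  obtain ⟨φ, p1, p2⟩ := h.phi hu.inn.zc
  have p3 := h.pre p1 p2 hu.tz hu.tx
  have zA := h.zA t
  have tA := self_mem_cent1 t
  have p4 : F.Iso 𝐂[t] 𝐂[φ z] φ :=
    p1.iso_of_card (fun g hg => mem_cent1.2 ((p1.comm hg zA).2 (h.zs g).symm)) (mx _ ⟨_, p3⟩)
  obtain ⟨β, b1, b2⟩ : ∃ β, F.Iso 𝐂[t] 𝐂[t] β ∧ ∀ g, φ (β g) = y * φ g * y⁻¹ :=
    ⟨_, p4.symm.conj p3.yA, by simp⟩
  have yy : ∀ g : G, y * (y * g * y⁻¹) * y⁻¹ = g := fun g => by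
    rw [show y * (y * g * y⁻¹) * y⁻¹ = y * y * g * (y * y)⁻¹ by group, h.yy, (h.zs g).eq, mul_inv_cancel_right]
  have b3 : ∀ g ∈ 𝐂[t], ∃ n : ℤ, β g = g * u ^ n := fun g hg => by
    have m := b1.mem hg
    obtain ⟨n, e⟩ := hu.gen (v := g⁻¹ * β g) ⟨_, φ, p1, tA, mul_mem (inv_mem hg) m, p2, by
      rw [p1.homOn (inv_mem hg) m, p1.homOn.map_inv hg, b2]
      simpa [mul_assoc] using mul_mem (h.cm (φ g)⁻¹ h.qg.ym1) (inv_mem h.qg.ym1)⟩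
    exact ⟨n, by rw [← e]; group⟩
  have bu : β u = u⁻¹ := by
    obtain ⟨i, -, e⟩ := hu.phi_u p1 p2
    exact φ.injective (by rw [b2, p1.homOn.map_inv hu.uA, e, ← conj_zpow, h.yx, inv_zpow])
  have bt : β (z * t) = z := φ.injective (by
    rw [b2, p1.homOn zA tA, p2, ← conj_mul, p3.yt, h.qg.zy.symm.eq, mul_inv_cancel_right, (h.zs _).eq, mul_assoc,
      h.qg.zz, mul_one])
  have a1 := hu.yA.trans b1
  have bx : β x = x * u := by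
    obtain ⟨n, e⟩ := b3 x hu.xA
    have := h.in_mem (hu.inn.map a1.isMap tA hu.uA) (F.isMap_one le_rfl) trivial trivial (by simp [hu.yt, bt])
    simp only [Perm.coe_one, id, Perm.mul_apply, cj_apply, yu, b1.homOn hu.xA hu.uA, e, bu, mul_assoc,
      mul_mem_cancel_left h.qg.xm1, ← zpow_sub_one] at this
    rw [e, ← sub_add_cancel n 1, zpow_add_one, h.disj (hu.inn.zpow _) this hu.tz, one_mul]
  refine ⟨t, u, _, hu, yu, a1, by simp [yu, b1.homOn hu.xA hu.uA, bx, bu],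
    by simp only [Perm.mul_apply, cj_apply, h.yx, b1.homOn.map_inv hu.xA, bx], fun g _ => ?_, fun g hg => ?_⟩
  · simp only [Perm.mul_apply, cj_apply, yy]
    exact φ.injective (by rw [b2, b2, yy])
  · obtain ⟨a, e⟩ := hu.yg hg
    obtain ⟨n, e'⟩ := b3 g hg
    refine ⟨a, n + a, ?_⟩
    rw [Perm.mul_apply, cj_apply, e, b1.homOn hg (zpow_mem hu.xA a), b1.homOn.map_zpow hu.xA, bx, e',
      hu.ux.symm.mul_zpow, zpow_add, mul_assoc, ← mul_assoc (u ^ n), (hu.ux.zpow_zpow n a).eq, mul_assoc]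

end Cfsg.Agent.Wz
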