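import Cfsg.Agent.Wz.C

/-! The structure of the `2`-group. -/

set_option autoImplicit false
set_option linter.unusedSectionVars false

namespace Cfsg.Agent.Wz

open Subgroup Equiv Cfsg.Fus Cfsg.Agent.FT Cfsg.FusionSystem

variable {G : Type*} [Group G] [Finite G] {k : ℕ} {x y z r s g t u v w : G} {a b c d i j : ℤ} {P Q : Subgroup G}
  {σ τ φ ψ α : Perm G} {F E : FusionSystem (⊤ : Subgroup G)}

/-- fixed points of `α` -/
def Fx (t : G) (α : Perm G) (w : G) : Prop := w ∈ 𝐂[t] ∧ α w = w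

namespace Tri
variable (h : Tri F k x y z t u α)
include h

theorem TA (a b : ℤ) : x ^ a * u ^ b ∈ 𝐂[t] := mul_mem (zpow_mem h.xA a) (zpow_mem h.uA b)

theorem tmul (a b c d : ℤ) : x ^ a * u ^ b * (x ^ c * u ^ d) = x ^ (a + c) * u ^ (b + d) := by
  rw [mul_assoc, ← mul_assoc (u ^ b), (h.ux.zpow_zpow b c).eq]; group

theorem tinv (a b : ℤ) : (x ^ a * u ^ b)⁻¹ = x ^ (-a) * u ^ (-b) := by
  rw [inv_eq_iff_mul_eq_one, h.tmul]; simp

theorem tx' (a b : ℤ) : Commute (x ^ a * u ^ b) x := ((Commute.refl x).zpow_left a).mul_left (h.ux.zpow_left b)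

theorem tu' (a b : ℤ) : Commute (x ^ a * u ^ b) u := (h.ux.symm.zpow_left a).mul_left ((Commute.refl u).zpow_left b)

theorem teq : x ^ a * u ^ b = x ^ c * u ^ d ↔ (2 : ℤ) ^ (k + 1) ∣ a - c ∧ (2 : ℤ) ^ (k + 1) ∣ b - d := by
  refine ⟨fun e => ?_, fun e => by rw [(ord_iff h.hyp.ox).2 e.1, (ord_iff h.ou).2 e.2]⟩
  have : x ^ (a - c) = u ^ (d - b) := by
    rw [sub_eq_neg_add, zpow_add, zpow_sub, zpow_neg, inv_mul_eq_iff_eq_mul, ← mul_assoc, ← e]; simp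
  have e' := (ord_iff h.hyp.ox).2 ((ord_one h.hyp.ox).1 (h.ind this))
  exact ⟨(ord_iff h.hyp.ox).1 e', (ord_iff h.ou).1 (mul_left_cancel (e' ▸ e))⟩

theorem aT (a b : ℤ) : α (x ^ a * u ^ b) = x ^ (b - a) * u ^ (-a) := by
  rw [h.map.homOn (zpow_mem h.xA a) (zpow_mem h.uA b), h.map.homOn.map_zpow h.xA, h.map.homOn.map_zpow h.uA,
    h.ax, h.au, inv_zpow', h.ux.symm.mul_zpow, mul_assoc, (h.ux.zpow_zpow _ _).eq]; group

theorem yT (a b : ℤ) : y * (x ^ a * u ^ b) * y⁻¹ = x ^ (b - a) * u ^ b := by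
  rw [← conj_mul, ← conj_zpow, ← conj_zpow, h.hyp.yx, h.yu, h.ux.symm.mul_zpow]; group

theorem cT (e1 : w * x * w⁻¹ = x ^ i) (e2 : w * u * w⁻¹ = u ^ i) (a b : ℤ) :
    w * (x ^ a * u ^ b) * w⁻¹ = x ^ (i * a) * u ^ (i * b) := by rw [← conj_mul, cjz e1, cjz e2]

theorem Ty (a b : ℤ) : x ^ a * u ^ b * y * (x ^ a * u ^ b)⁻¹ = x ^ (2 * a - b) * y := by
  rw [mul_assoc, mul_inv_eq_iff_eq_mul.1 (show y * (x ^ a * u ^ b)⁻¹ * y⁻¹ = _ from conj_inv.symm), h.yT,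
    ← mul_assoc, h.tinv, h.tmul, add_neg_cancel, zpow_zero, mul_one]
  congr 2; ring

theorem at' : α t = z := by rw [h.ut, h.map.homOn.map_zpow h.uA, h.au, ← h.hyp.qg.hz']

theorem azt : α (z * t) = t := by
  have := h.aT (2 ^ k) (2 ^ k)
  rw [← h.hyp.qg.hz', ← h.ut, sub_self, zpow_zero, one_mul, zpow_neg, ← h.ut] at this
  rw [this, inv_eq_iff_mul_eq_one, h.tt]

theorem fx_mul (h1 : Fx t α v) (h2 : Fx t α w) : Fx t α (v * w) :=
  ⟨mul_mem h1.1 h2.1, by rw [h.map.homOn h1.1 h2.1, h1.2, h2.2]⟩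

theorem fx_inv (h1 : Fx t α w) : Fx t α w⁻¹ := ⟨inv_mem h1.1, by rw [h.map.homOn.map_inv h1.1, h1.2]⟩

theorem dec (hg : g ∈ 𝐂[t]) : ∃ a b : ℤ, ∃ w, Fx t α w ∧ g = x ^ a * u ^ b * w := by
  obtain ⟨a, b, e⟩ := h.triv _ (inv_mem hg)
  obtain ⟨j, -, d, ej⟩ := odd_inv k (i := 3) ⟨1, rfl⟩
  refine ⟨j * (a + b), b - j * (a + b), _, h.fx_inv (w := g⁻¹ * (x ^ (j * (a + b)) * u ^ (b - j * (a + b))))
    ⟨mul_mem (inv_mem hg) (h.TA _ _), ?_⟩, by group⟩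
  rw [h.map.homOn (inv_mem hg) (h.TA _ _), e, h.aT, mul_assoc, h.tmul, mul_right_inj, h.teq]
  exact ⟨⟨-d * (a + b), by linear_combination -(a + b) * ej⟩, 0, by ring⟩

theorem fy (hw : Fx t α w) : Commute w y := by
  obtain ⟨a, e⟩ := h.yg hw.1
  have := h.dih w hw.1
  rw [e, ← mul_one (x ^ a), ← zpow_zero u, h.map.homOn hw.1 (h.TA _ _), hw.2, h.aT, ← conj_mul, e, h.yT,
    ← mul_one (x ^ a), ← zpow_zero u, mul_assoc, h.tmul, h.map.homOn hw.1 (h.TA _ _), hw.2, h.aT, mul_eq_left,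
    show (1 : G) = x ^ (0 : ℤ) * u ^ (0 : ℤ) by simp, h.teq] at this
  rw [(ord_one h.hyp.ox).2 (by simpa using this.2), mul_one] at e
  exact (mul_inv_eq_iff_eq_mul.1 e).symm

theorem fs (hw : Fx t α w) : ∃ i : ℤ, Odd i ∧ w * x * w⁻¹ = x ^ i ∧ w * u * w⁻¹ = u ^ i :=
  let ⟨i, _, hi, e, _⟩ := h.hyp.act w
  ⟨i, hi, e, α.injective (by rw [h.map.homOn.map_conj hw.1 h.uA, h.map.homOn.map_zpow h.uA, hw.2, h.au, e])⟩

theorem f1 (hw : Fx t α w) (c : Commute w x) : w = 1 := by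
  by_contra e
  obtain ⟨n, h1, h2⟩ := exists_inv2 h.hyp.pG e
  have := h.hyp.iso _ h1 h2 (c.pow_left n) ((h.fy hw).pow_left n) _ _ h.map.isMap (pow_mem hw.1 n) (h.hyp.zA t)
    (by rw [h.map.homOn.map_pow hw.1, hw.2])
  exact h.tz (α.injective (h.at'.trans this.symm))

theorem AT (hg : g ∈ 𝐂[t]) (c : Commute g x) : ∃ a b : ℤ, g = x ^ a * u ^ b := by
  obtain ⟨a, b, w, hw, rfl⟩ := h.dec hg
  exact ⟨a, b, by rw [h.f1 hw (inv_mul_cancel_left _ w ▸ (h.tx' a b).inv_left.mul_left c), mul_one]⟩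

/-- elements of `A` act on `T` by scalars -/
theorem scal (hg : g ∈ 𝐂[t]) (e : g * x * g⁻¹ = x ^ i) : g * u * g⁻¹ = u ^ i := by
  obtain ⟨a, b, w, hw, rfl⟩ := h.dec hg
  obtain ⟨j, -, e1, e2⟩ := h.fs hw
  have c : ∀ v : G, x ^ a * u ^ b * w * v * (x ^ a * u ^ b * w)⁻¹ = x ^ a * u ^ b * (w * v * w⁻¹) * (x ^ a * u ^ b)⁻¹ :=
    fun v => by group
  rw [c, e1, ((h.tx' a b).zpow_right j).eq, mul_inv_cancel_right, ord_iff h.hyp.ox] at e
  rw [c, e2, ((h.tu' a b).zpow_right j).eq, mul_inv_cancel_right, ord_iff h.ou]; exact e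

theorem pre_t (p : Pre F k x y z s v) (hv : v ∈ 𝐂[t] ∨ v * y⁻¹ ∈ 𝐂[t]) : s = t ∨ s = z * t := by
  rcases hv with hv | hv
  · obtain ⟨a, b, e⟩ := h.AT hv p.ux
    have e2 : s = z ^ a * t ^ b := by
      rw [p.ut, e, (h.ux.symm.zpow_zpow a b).mul_zpow, zpow_comm, zpow_comm u, ← h.hyp.qg.hz', ← h.ut]
    have t2 : t ^ (2 : ℤ) = 1 := (zpow_two t).trans h.tt
    have := (h.hyp.tt p.inn.zc).2
    have := p.tz
    rcases Int.even_or_odd' a with ⟨a, rfl | rfl⟩ <;> rcases Int.even_or_odd' b with ⟨b, rfl | rfl⟩ <;>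
      simp_all [zpow_add, zpow_mul, h.hyp.qg.z2]
  · obtain ⟨g, rfl⟩ : ∃ g, v = g * y := ⟨v * y⁻¹, by simp⟩
    rw [mul_inv_cancel_right] at hv
    have e1 : g * x * g⁻¹ = x ^ (-1 : ℤ) := by
      have := mul_inv_eq_iff_eq_mul.2 p.ux.eq
      rw [show g * y * x * (g * y)⁻¹ = g * (y * x * y⁻¹) * g⁻¹ by group, h.hyp.yx, ← conj_inv, inv_eq_iff_eq_inv] at this
      simpa using this
    obtain ⟨a, b, e⟩ := h.AT (g := g * y * (g * y)) (by
      rw [show g * y * (g * y) = g * (y * g * y⁻¹) * (y * y) by group, h.hyp.yy]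
      exact mul_mem (mul_mem hv (h.yA.mem hv)) (h.hyp.zA t)) (p.ux.mul_left p.ux)
    have e2 : g * (y * (x ^ a * u ^ b) * y⁻¹) * g⁻¹ = x ^ a * u ^ b := by rw [← e]; group
    rw [h.yT, h.cT e1 (h.scal hv e1), h.teq] at e2
    rw [(ord_one h.ou (a := b)).2 (by simpa using e2.1), mul_one, ← zpow_two] at e
    have := h.hyp.qg.ev ((ord_one p.ou).1 (h.hyp.disj (p.inn.zpow 2) (e ▸ h.hyp.qg.xm a) p.tz))
    omega

theorem all (g : G) : g ∈ 𝐂[t] ∨ g * y⁻¹ ∈ 𝐂[t] := by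
  have zc : ∀ g s : G, g * (z * s) * g⁻¹ = z * (g * s * g⁻¹) := fun g s => by
    rw [← mul_assoc, ← (h.hyp.zs g).eq]; group
  have zz : ∀ s : G, z * (z * s) = s := fun s => by rw [← mul_assoc, h.hyp.qg.zz, one_mul]
  let N : Subgroup G :=
    { carrier := {g | g * t * g⁻¹ = t ∨ g * t * g⁻¹ = z * t}
      one_mem' := .inl (by simp)
      mul_mem' := fun {a b} ha hb => by
        rw [Set.mem_setOf_eq, show a * b * t * (a * b)⁻¹ = a * (b * t * b⁻¹) * a⁻¹ by group]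
        rcases hb with e | e <;> rcases ha with e' | e' <;> simp only [e, e', zc, zz, true_or, or_true]
      inv_mem' := fun {a} ha => by
        have : a⁻¹ * (a * t * a⁻¹) * a⁻¹⁻¹ = t := by group
        rcases ha with e | e <;> rw [e] at this
        exacts [.inl this, .inr (by rw [zc] at this; rw [← zz (_ * _ * _), this])] }
  have mem : ∀ g ∈ N, g ∈ 𝐂[t] ∨ g * y⁻¹ ∈ 𝐂[t] := fun g hg => hg.imp (fun e => mem_cent1.2
    (mul_inv_eq_iff_eq_mul.1 e)) fun e => mem_cent1.2 (mul_inv_eq_iff_eq_mul.1 (by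
      rw [h.hyp.qg.yi, show g * (z * y) * t * (g * (z * y))⁻¹ = g * (z * (y * t * y⁻¹) * z⁻¹) * g⁻¹ by group, h.yt,
        (h.hyp.zs _).eq, mul_inv_cancel_right, zc, e, zz]))
  refine mem g ((?_ : N = ⊤) ▸ trivial)
  by_contra hN
  haveI := h.hyp.pG.isNilpotent
  obtain ⟨s, h1, h2⟩ := SetLike.exists_of_lt (normalizerCondition_of_isNilpotent N (lt_top_iff_ne_top.2 hN))
  exact h2 (h.pre_t ⟨h.hyp, h.inn.conj s, by rw [← h.ou]; exact (MulAut.conj s).orderOf_eq u, fun e => h.tz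
    (by rw [mul_inv_eq_iff_eq_mul, (h.hyp.zs s).eq] at e; exact mul_left_cancel e)⟩
    (mem _ (conj_mem_of_mem_normalizer h1 (.inl (mul_inv_eq_iff_eq_mul.2 (mem_cent1.1 h.uA))))))

end Tri

end Cfsg.Agent.Wz
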