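import Cfsg.Agent.Wz.I
import Cfsg.Agent.H3.PSL2Fus

/-! The Cayley–Dickson model of the split octonions and the centralizer of an involution of `G₂`. -/

set_option autoImplicit false

namespace Cfsg.Agent.Wz.G

open Matrix Cfsg.Lie Cfsg.Agent.H3
open scoped MatrixGroups

abbrev Mt (K : Type) := Matrix (Fin 2) (Fin 2) K
abbrev Oc (K : Type) := Mt K × Mt K

variable {K : Type} [Field K]

/-- Cayley–Dickson product -/
def cd (x y : Oc K) : Oc K := (x.1 * y.1 - adjugate y.2 * x.2, y.2 * x.1 + x.2 * adjugate y.1)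

def crd (K : Type) [Field K] : (Fin 8 → K) ≃ₗ[K] Oc K where
  toFun x := (!![x 0, x 1; x 4, x 7], !![x 2, x 6; x 3, -x 5])
  invFun y := ![y.1 0 0, y.1 0 1, y.2 0 0, y.2 1 0, y.1 1 0, -y.2 1 1, y.2 0 1, y.1 1 1]
  map_add' x y := by
    refine Prod.ext ?_ ?_ <;> ext i j <;> fin_cases i <;> fin_cases j <;> simp [add_comm]
  map_smul' c x := by refine Prod.ext ?_ ?_ <;> ext i j <;> fin_cases i <;> fin_cases j <;> simp
  left_inv x := by ext i; fin_cases i <;> simp
  right_inv y := by refine Prod.ext ?_ ?_ <;> ext i j <;> fin_cases i <;> fin_cases j <;> simp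

theorem crd_mul (x y : Fin 8 → K) : crd K (zornMul x y) = cd (crd K x) (crd K y) := by
  refine Prod.ext ?_ ?_ <;> ext i j <;> fin_cases i <;> fin_cases j <;>
    simp [crd, cd, zornMul, dot3, cross3] <;> ring

noncomputable def tm (K : Type) [Field K] : Matrix (Fin 8) (Fin 8) K ≃ₐ[K] Module.End K (Oc K) :=
  Matrix.toLinAlgEquiv'.trans ((crd K).conjAlgEquiv K)

theorem tm_crd (M : Matrix (Fin 8) (Fin 8) K) (x : Fin 8 → K) : tm K M (crd K x) = crd K (M *ᵥ x) := by
  simp [tm, LinearEquiv.conjAlgEquiv_apply]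

/-- the action of `G₂` -/
noncomputable def ac : G2 K →* Module.End K (Oc K) :=
  (tm K : _ →* _).comp ((Units.coeHom _).comp (G2 K).subtype)

theorem ac_inj {g h : G2 K} (e : ∀ x, ac g x = ac h x) : g = h :=
  Subtype.ext (Units.ext ((tm K).injective (LinearMap.ext e)))

theorem ac_mul (g h : G2 K) (x : Oc K) : ac (g * h) x = ac g (ac h x) := by rw [map_mul]; rfl

theorem ac_cd (g : G2 K) (x y : Oc K) : ac g (cd x y) = cd (ac g x) (ac g y) := by
  obtain ⟨x, rfl⟩ := (crd K).surjective x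
  obtain ⟨y, rfl⟩ := (crd K).surjective y
  rw [← crd_mul]
  exact (tm_crd _ _).trans ((congrArg _ (g.2 x y)).trans ((crd_mul _ _).trans
    (congrArg₂ _ (tm_crd _ _).symm (tm_crd _ _).symm)))

noncomputable def mk (u : (Module.End K (Oc K))ˣ) (h : ∀ x y, u.1 (cd x y) = cd (u.1 x) (u.1 y)) : G2 K :=
  ⟨Units.map ((tm K).symm : _ →* _) u, fun x y => (crd K).injective (by
    have e : ∀ v, crd K ((tm K).symm u.1 *ᵥ v) = u.1 (crd K v) := fun v => by
      rw [← tm_crd, AlgEquiv.apply_symm_apply]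
    exact (e _).trans (by rw [crd_mul, h, crd_mul]; exact congrArg₂ _ (e _).symm (e _).symm))⟩

theorem ac_mk (u : (Module.End K (Oc K))ˣ) (h) : ac (mk u h) = u.1 := (tm K).apply_symm_apply _

/-- pairs with the same determinant -/
abbrev Dd (K : Type) [Field K] : Subgroup (GL (Fin 2) K × GL (Fin 2) K) :=
  (GeneralLinearGroup.det.comp (MonoidHom.fst _ _)).eqLocus
    (GeneralLinearGroup.det.comp (MonoidHom.snd _ _))

def pe : Dd K →* Module.End K (Oc K) where
  toFun d := ((LinearMap.mulLeft K d.1.1.1).comp (LinearMap.mulRight K d.1.1⁻¹.1)).prodMap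
    ((LinearMap.mulLeft K d.1.2.1).comp (LinearMap.mulRight K d.1.1⁻¹.1))
  map_one' := LinearMap.ext fun x => by simp
  map_mul' a b := LinearMap.ext fun x => by simp [mul_assoc]

theorem pe_apply (d : Dd K) (x : Oc K) :
    pe d x = (d.1.1.1 * (x.1 * d.1.1⁻¹.1), d.1.2.1 * (x.2 * d.1.1⁻¹.1)) := rfl

theorem adj_unit (a : GL (Fin 2) K) : adjugate a.1 = a.1.det • a⁻¹.1 := by
  rw [← mul_one (adjugate a.1), ← a.mul_inv, ← mul_assoc, adjugate_mul, smul_mul_assoc, one_mul]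

theorem pe_cd (d : Dd K) (x y : Oc K) : pe d (cd x y) = cd (pe d x) (pe d y) := by
  obtain ⟨⟨a, b⟩, h⟩ := d
  have h1 : a.1.det = b.1.det := congrArg Units.val h
  have h2 : a⁻¹.1.det * a.1.det = 1 := by rw [← det_mul, a.inv_mul, det_one]
  simp only [pe_apply, cd, adjugate_mul_distrib, adj_unit, inv_inv, mul_sub, sub_mul, mul_add, add_mul,
    smul_mul_assoc, mul_smul_comm, smul_smul, mul_assoc, Units.inv_mul_cancel_left, ← h1, h2,
    mul_comm a.1.det, one_smul]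

noncomputable def ps : Dd K →* G2 K := MonoidHom.mk' (fun d => mk (pe.toHomUnits d) (pe_cd d))
  fun a b => ac_inj fun x => by
    rw [ac_mul, ac_mk (pe.toHomUnits a) (pe_cd a), ac_mk (pe.toHomUnits b) (pe_cd b),
      ac_mk (pe.toHomUnits (a * b)) (pe_cd _), map_mul]; rfl

theorem ac_ps (d : Dd K) (x : Oc K) :
    ac (ps d) x = (d.1.1.1 * (x.1 * d.1.1⁻¹.1), d.1.2.1 * (x.2 * d.1.1⁻¹.1)) :=
  LinearMap.congr_fun (ac_mk _ (pe_cd d)) x

noncomputable def i1 : SL(2, K) →* G2 K := ps.comp (((1 : _ →* _).prod SpecialLinearGroup.toGL).codRestrict _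
  fun b => Units.ext (by simp))
noncomputable def i2 : SL(2, K) →* G2 K := ps.comp ((SpecialLinearGroup.toGL.prod (1 : _ →* _)).codRestrict _
  fun b => Units.ext (by simp))
noncomputable def dl : GL (Fin 2) K →* G2 K := ps.comp (((MonoidHom.id _).prod (MonoidHom.id _)).codRestrict _
  fun _ => rfl)

theorem ac_i1 (b : SL(2, K)) (x : Oc K) : ac (i1 b) x = (x.1, b.1 * x.2) := (ac_ps _ x).trans (by
  simp [SpecialLinearGroup.toGL])
theorem ac_i2 (a : SL(2, K)) (x : Oc K) : ac (i2 a) x = (a.1 * (x.1 * a⁻¹.1), x.2 * a⁻¹.1) :=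
  (ac_ps _ x).trans (by simp [SpecialLinearGroup.toGL])
theorem ac_dl (a : GL (Fin 2) K) (x : Oc K) :
    ac (dl a) x = (a.1 * (x.1 * a⁻¹.1), a.1 * (x.2 * a⁻¹.1)) := ac_ps _ x

theorem i1_inj : Function.Injective (i1 : SL(2, K) → G2 K) := fun a b e => Subtype.ext (by
  simpa [ac_i1] using congrArg (fun g => (ac g (0, 1)).2) e)
theorem i2_inj : Function.Injective (i2 : SL(2, K) → G2 K) := fun a b e => inv_injective (Subtype.ext (by
  simpa only [ac_i2, one_mul] using congrArg (fun g => (ac g (0, 1)).2) e))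
theorem i_comm (a b : SL(2, K)) : Commute (i2 a) (i1 b) := ac_inj fun x => by
  simp only [ac_mul, ac_i1, ac_i2, mul_assoc]
theorem dl_toGL (a : SL(2, K)) : dl (SpecialLinearGroup.toGL a) = i2 a * i1 a := ac_inj fun x => by
  simp only [ac_mul, ac_i1, ac_i2, ac_dl, mul_assoc]; rfl
theorem i2_neg : (i2 (-1) : G2 K) = i1 (-1) := ac_inj fun x => by simp [ac_i1, ac_i2]

theorem dl_conj (a : GL (Fin 2) K) (b : SL(2, K)) : ∃ c, dl a * i1 b * (dl a)⁻¹ = i1 c :=
  ⟨⟨a.1 * b.1 * a⁻¹.1, by rw [det_mul, det_mul, b.2, mul_one, ← det_mul, a.mul_inv, det_one]⟩,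
    mul_inv_eq_of_eq_mul (ac_inj fun x => (ac_mul _ _ _).trans (Eq.trans (by
      simp only [ac_i1, ac_dl, mul_assoc, Units.inv_mul_cancel_left])
        ((ac_mul _ _ _).trans (ac_i1 _ _)).symm))⟩

theorem skolem (φ : Mt K ≃ₐ[K] Mt K) : ∃ a : GL (Fin 2) K, ∀ h, φ h = a.1 * (h * a⁻¹.1) := by
  obtain ⟨T, hT⟩ := AlgEquiv.eq_linearEquivConjAlgEquiv
    (Matrix.toLinAlgEquiv'.symm.trans (φ.trans Matrix.toLinAlgEquiv'))
  refine ⟨Units.map ((Matrix.toLinAlgEquiv'.symm : Module.End K (Fin 2 → K) ≃ₐ[K] Mt K) : _ →* Mt K)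
    (LinearMap.GeneralLinearGroup.ofLinearEquiv T), fun h => Matrix.toLinAlgEquiv'.injective ?_⟩
  have := AlgEquiv.congr_fun hT (Matrix.toLinAlgEquiv' h)
  simp only [AlgEquiv.trans_apply, AlgEquiv.symm_apply_apply] at this
  rw [this, map_mul, map_mul, ← map_inv, Units.coe_map, Units.coe_map, MonoidHom.coe_coe,
    AlgEquiv.apply_symm_apply, AlgEquiv.apply_symm_apply]
  rfl

/-- the centralizer of `z` -/
theorem cent (h2 : (2 : K) ≠ 0) {g : G2 K} (h : Commute g (i1 (-1))) : ∃ a b, g = dl a * i1 b := by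
  have hf : ∀ {M : Mt K}, M = -M → M = 0 := fun {M} e =>
    (smul_eq_zero.1 (by rw [two_smul]; exact add_eq_zero_iff_eq_neg.2 e)).resolve_left h2
  have h0 : ∀ {g : G2 K}, Commute g (i1 (-1)) → ∀ x : Oc K,
      ac g (x.1, -x.2) = ((ac g x).1, -(ac g x).2) := fun h x => by
    simpa [ac_mul, ac_i1] using congrArg (fun g => ac g x) h.eq
  have h1 : ∀ M, ac g (M, 0) = ((ac g (M, 0)).1, 0) := fun M =>
    Prod.ext rfl (hf (by simpa using congrArg Prod.snd (h0 h (M, 0))))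
  let φ : Mt K →ₗ[K] Mt K := (LinearMap.fst _ _ _).comp ((ac g).comp (LinearMap.inl _ _ _))
  have inj : Function.Injective φ := fun M N e => by
    have : ac g (M, 0) = ac g (N, 0) := by rw [h1, h1 N]; exact Prod.ext e rfl
    simpa [← ac_mul] using congrArg (fun x => (ac g⁻¹ x).1) this
  have mul : ∀ M N, φ (M * N) = φ M * φ N := fun M N => by
    have := congrArg Prod.fst (ac_cd g (M, 0) (N, 0))
    rw [h1 M, h1 N] at this
    simpa [cd, φ] using this
  have surj := LinearMap.injective_iff_surjective.1 inj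
  obtain ⟨a, ha⟩ := skolem (AlgEquiv.ofBijective (AlgHom.ofLinearMap φ (by
    obtain ⟨M, hM⟩ := surj 1
    rw [← mul_one (φ 1), ← hM, ← mul, hM, one_mul, hM]) mul) ⟨inj, surj⟩)
  obtain ⟨g', rfl⟩ : ∃ g', g = dl a * g' := ⟨(dl a)⁻¹ * g, by group⟩
  have h3 : ∀ M, ac g' (M, 0) = (M, 0) := fun M => by
    have e : ac (dl a * g') (M, 0) = ac (dl a) (M, 0) := by
      rw [h1, ac_dl]; exact Prod.ext (ha M) (by simp)
    have e' := congrArg (ac (dl a)⁻¹) e
    rwa [← ac_mul, ← ac_mul, inv_mul_cancel_left, inv_mul_cancel, map_one] at e'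
  have h4 : Commute g' (i1 (-1)) := by
    have : Commute (dl a) (i1 (-1)) := ac_inj fun x => by simp [ac_i1, ac_dl]
    simpa using this.inv_left.mul_left h
  have h5 : (ac g' (0, 1)).1 = 0 := hf (by
    have := congrArg Prod.fst (h0 h4 (0, 1))
    rwa [show (((0, 1) : Oc K).1, -((0, 1) : Oc K).2) = -(0, 1) by simp, map_neg, eq_comm] at this)
  have h6 : (ac g' (0, 1)).2.det = 1 := by
    have := congrArg (fun x => x.1 0 0) (ac_cd g' (0, 1) (0, 1))
    simpa [cd, h3, h5, adjugate_mul] using this.symm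
  refine ⟨a, ⟨_, h6⟩, congrArg _ (ac_inj fun x => Eq.trans ?_ (ac_i1 _ x).symm)⟩
  have := ac_cd g' (x.2, 0) (0, 1)
  rw [h3] at this
  rw [show x = (x.1, 0) + cd (x.2, 0) (0, 1) by simp [cd], map_add, h3, this]
  simp [cd, h5]

def sg (K : Type) [Field K] : Module.End K (Oc K) where
  toFun x := (!![x.1 0 0, x.2 1 0; x.2 0 1, x.1 1 1], !![x.1 0 1, -x.2 1 1; x.2 0 0, -x.1 1 0])
  map_add' x y := by
    refine Prod.ext ?_ ?_ <;> ext i j <;> fin_cases i <;> fin_cases j <;> simp [add_comm]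
  map_smul' c x := by refine Prod.ext ?_ ?_ <;> ext i j <;> fin_cases i <;> fin_cases j <;> simp

theorem sg_cube : sg K * (sg K * sg K) = 1 := LinearMap.ext fun x => by
  refine Prod.ext ?_ ?_ <;> ext i j <;> fin_cases i <;> fin_cases j <;> simp [sg]

/-- a cyclic permutation of the coordinates -/
noncomputable def cy (K : Type) [Field K] : G2 K :=
  mk ⟨sg K, sg K * sg K, sg_cube, (mul_assoc _ _ _).trans sg_cube⟩ fun x y => by
    refine Prod.ext ?_ ?_ <;> ext i j <;> fin_cases i <;> fin_cases j <;>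
      simp [sg, cd, adjugate_fin_two, mul_apply, Fin.sum_univ_two, vecMul, dotProduct] <;> ring

theorem cy_conj (u : Kˣ) :
    cy K * i1 (sl2 ((u⁻¹ : Kˣ) : K) 0 0 u (by simp)) * (cy K)⁻¹ = dl (H6.dg (u, 1)) :=
  mul_inv_eq_of_eq_mul (ac_inj fun x => by
    rw [ac_mul, ac_mul, ac_i1, ac_dl, ← map_inv, cy, ac_mk]
    refine Prod.ext ?_ ?_ <;> ext i j <;> fin_cases i <;> fin_cases j <;>
      simp [sg, sl2, H6.dg_apply, H6.coe_gl2, mul_apply, Fin.sum_univ_two, vecMul, dotProduct] <;>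
      field_simp)

end Cfsg.Agent.Wz.G
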