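import Cfsg.Agent.H6.Real2
import Cfsg.Prelude.Def_G2

/-! Interface for `S5176` (see notes/wz.md). -/

set_option autoImplicit false

namespace Cfsg.Agent.Wz

open Subgroup

variable {Ω : Type*} [Group Ω] {S : Subgroup Ω}

/-- `R = ⟨x, y⟩` is generalized quaternion of order `2 ^ (k + 2)` with involution `z`, and behaves like a Sylow
subgroup of a normal subgroup `SL₂(q)` of the centralizer of `z` -/
structure Hyp (F : FusionSystem S) (k : ℕ) (x y z : Ω) : Prop where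
  pS : IsPGroup 2 S
  sat : F.IsSaturated 2
  k2 : 2 ≤ k
  xS : x ∈ S
  yS : y ∈ S
  ox : orderOf x = 2 ^ (k + 1)
  hz : z = x ^ 2 ^ k
  yx : y * x * y⁻¹ = x⁻¹
  yy : y * y = z
  nrm : S ≤ normalizer (closure {x, y} : Subgroup Ω)
  sc : ∀ P f, F.IsMap P f → z ∈ P → f z = z → ∀ r ∈ P, r ∈ closure {x, y} → f r ∈ closure {x, y}
  wc : ∀ P f, F.IsMap P f → z ∈ P → Commute (f z) x → Commute (f z) y → f z = z
  iso : ∀ w, w * w = 1 → w ≠ 1 → Commute w x → Commute w y →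
    ∀ P f, F.IsMap P f → w ∈ P → z ∈ P → f w = w → f z = z
  foc : S ≤ F.focalSubgroup

/-- the groups `G₂(q)` satisfy the hypotheses -/
class G2T : Prop where
  out : ∀ k, 2 ≤ k → ∃ (K : Type) (_ : Field K) (_ : Fintype K), Odd (Fintype.card K) ∧
    ∃ (P : Sylow 2 (Lie.G2 K)) (x y z : Lie.G2 K), Hyp (groupFusionSystem (P : Subgroup (Lie.G2 K))) k x y z ∧
      (∃ g, g * z * g⁻¹ ∈ (P : Subgroup (Lie.G2 K)) ∧ g * z * g⁻¹ ≠ z ∧ Commute (g * z * g⁻¹) x) ∧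
      ∃ a ∈ (P : Subgroup (Lie.G2 K)), ∃ b ∈ (P : Subgroup (Lie.G2 K)),
        Commute a x ∧ Commute a y ∧ Commute b x ∧ Commute b y ∧ ¬ Commute a b

end Cfsg.Agent.Wz
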