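import Cfsg.Agent.Wz.B

/-! Slices of `S5176` (see notes/wz.md). -/

set_option autoImplicit false

namespace Cfsg.Agent.Wz

open Subgroup Equiv

universe u v

/-- the configuration of a Sylow `2`-subgroup of `G₂(q)` -/
structure Std {G : Type*} [Group G] (F : FusionSystem (⊤ : Subgroup G)) (k : ℕ) (x y z u w : G) (α : Perm G) :
    Prop where
  hyp : Hyp F k x y z
  ou : orderOf u = 2 ^ (k + 1)
  ux : Commute u x
  ind : ∀ a b : ℤ, x ^ a = u ^ b → x ^ a = 1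
  yu : y * u * y⁻¹ = x * u
  ww : w * w = 1
  wx : w * x * w⁻¹ = x⁻¹
  wu : w * u * w⁻¹ = u⁻¹
  wy : Commute w y
  all : ∀ g, ∃ a b : ℤ, g = x ^ a * u ^ b ∨ g = x ^ a * u ^ b * w ∨ g = x ^ a * u ^ b * y ∨ g = x ^ a * u ^ b * w * y
  map : F.IsMap (closure {x, u, w}) α
  au : α u = x
  ax : α x = (x * u)⁻¹
  aw : α w = w
  gen : ∀ E : FusionSystem (⊤ : Subgroup G), (∀ P, ∀ σ : Perm G, F.IsMap P σ → z ∈ P → σ z = z → E.IsMap P σ) →
    E.IsMap (closure {x, u, w}) α → F ≤ E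

class QD : Prop where
  out : ∀ {G : Type u} [Group G] [Finite G] {F : FusionSystem (⊤ : Subgroup G)} {k : ℕ} {x y z : G},
    Hyp F k x y z → (∃ t, Zc F z t ∧ t ≠ z) → (∀ t, Zc F z t → t ≠ z → ¬ Big x y z t) →
    ∃ P : Subgroup G, IsQuasiDihedral P ∧ F.StronglyClosed P

class BIG : Prop where
  out : ∀ {G : Type u} [Group G] [Finite G] {F : FusionSystem (⊤ : Subgroup G)} {k : ℕ} {x y z : G},
    Hyp F k x y z → (∃ t, Zc F z t ∧ t ≠ z ∧ Big x y z t) →
    (IsWreathed (⊤ : Subgroup G) ∧ ∀ a b, Commute a x → Commute a y → Commute b x → Commute b y → Commute a b) ∨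
      ∃ u w α, Std F k x y z u w α

class UNI : Prop where
  out : ∀ {G : Type u} {G' : Type v} [Group G] [Finite G] [Group G'] [Finite G'] {F : FusionSystem (⊤ : Subgroup G)}
    {F' : FusionSystem (⊤ : Subgroup G')} {k : ℕ} {x y z u w : G} {α : Perm G} {x' y' z' u' w' : G'} {α' : Perm G'},
    Std F k x y z u w α → Std F' k x' y' z' u' w' α' → ∃ θ θ', L.Transp ⊤ ⊤ θ θ' F F'

end Cfsg.Agent.Wz
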