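import Cfsg.Agent.Wz.J
import Cfsg.Agent.H4.GenQuat

/-! `UNI`, group part: the central product of two quaternion groups extended by `u`. -/

set_option autoImplicit false
set_option linter.unusedSectionVars false

namespace Cfsg.Agent.Wz

open Subgroup Equiv Cfsg.Fus Cfsg.Agent.FT Cfsg.Agent.H6

variable {G : Type*} [Group G] [Finite G] {k : ℕ} {x y z ζ c u r s p q : G} {a b : ℤ} {X : Subgroup G}
  {σ : Perm G} {φ : G → G}

theorem oddAut_perm (hG : IsPGroup 2 G) (h1 : HomOn σ X) (h2 : ∀ g ∈ X, σ g ∈ X) (h3 : Odd (orderOf σ)) :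
    OddAut X σ := by
  have ha : σ ∈ autStab X := ⟨h1, mem_setStab_of_finite h2⟩
  have o := oddAut_extAut (hG.to_subgroup X) (α := resAut X σ) (by
    rw [resAut_eq ha]; exact odd_map _ (by rwa [orderOf_mk]))
  have e : ∀ g ∈ X, extAut X (resAut X σ) g = σ g := fun g hg => extAut_resAut ha hg
  refine ⟨h2, fun g hg t ht => h1 hg ht, fun _ _ _ _ e => σ.injective e,
    fun g hg => ⟨σ⁻¹ g, (ha.2 _).1 (by simpa using hg), by simp⟩, fun C hC g hg m1 m2 => ?_, fun g hg m => ?_⟩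
  · rw [← e g hg] at m2 ⊢; exact o.cyc C hC g hg m1 m2
  · rw [← e g hg]
    refine o.step g hg ?_
    rwa [e g hg, e _ (mul_mem (h2 g hg) (inv_mem hg))]

namespace QG
variable (h : QG k x y z)
include h

theorem cj1 (a b : ℤ) : x ^ a * (x ^ b * y) * (x ^ a)⁻¹ = x ^ (b + 2 * a) * y := by
  rw [← zpow_neg, mul_assoc, mul_assoc, h.yz]; group

theorem par (hr : r ∈ closure {x, y}) (b : ℤ) : ∃ n : ℤ, r * (x ^ b * y) * r⁻¹ = x ^ (b + 2 * n) * y := by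
  obtain ⟨a, rfl | rfl⟩ := h.mem.1 hr
  · exact ⟨a, h.cj1 a b⟩
  · refine ⟨a - b, ?_⟩
    rw [show x ^ a * y * (x ^ b * y) * (x ^ a * y)⁻¹ = x ^ a * (y * x ^ b) * (x ^ a)⁻¹ by group, h.yz, h.cj1]
    congr 2; ring

theorem act1 (hr : r ∈ closure {x, y}) : r * x * r⁻¹ = x ∨ r * x * r⁻¹ = x⁻¹ := by
  obtain ⟨a, rfl | rfl⟩ := h.mem.1 hr
  · left; group
  · right
    rw [show x ^ a * y * x * (x ^ a * y)⁻¹ = x ^ a * (y * x * y⁻¹) * (x ^ a)⁻¹ by group, h.yx]; group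

theorem cz1 (e : r = 1 ∨ r = z) (hs : s ∈ closure {x, y}) : Commute r s := by
  rcases e with rfl | rfl
  exacts [Commute.one_left _, h.zc hs]

theorem ctr (hr : r ∈ closure {x, y}) (hp : p ∈ closure {x, y}) (hq : q ∈ closure {x, y}) (c1 : Commute r p)
    (c2 : Commute r q) (n : ¬ Commute p q) : r = 1 ∨ r = z := by
  have key : ∀ {a : ℤ} {p : G}, p ∈ closure {x, y} → Commute (x ^ a * y) p →
      (p = 1 ∨ p = z) ∨ ∃ t, (t = 1 ∨ t = z) ∧ p = t * (x ^ a * y) := fun {a p} hp c => by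
    obtain ⟨b, rfl | rfl⟩ := h.mem.1 hp
    · exact .inl (h.half (h.comm_iff.1 c.symm))
    · refine .inr ⟨x ^ (b - a), h.half ((h.comm_iff (b := a)).1 ?_), by group⟩
      have := (c.symm.mul_left (Commute.refl (x ^ a * y)).inv_left)
      rwa [show x ^ b * y * (x ^ a * y)⁻¹ = x ^ (b - a) by group] at this
  obtain ⟨a, rfl | rfl⟩ := h.mem.1 hr
  · obtain ⟨b, rfl | rfl⟩ := h.mem.1 hp
    · obtain ⟨d, rfl | rfl⟩ := h.mem.1 hq
      exacts [absurd (Commute.zpow_zpow_self x b d) n, h.half (h.comm_iff.1 c2)]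
    · exact h.half (h.comm_iff.1 c1)
  · refine absurd ?_ n
    rcases key hp c1 with e | ⟨t, e, rfl⟩
    · exact h.cz1 e hq
    · exact (h.cz1 e hq).mul_left c2

theorem zj (b : ℤ) : z * (x ^ b * y) = x ^ (b + 2 ^ k) * y := by rw [h.hz']; group

theorem nj (hr : r ∈ closure {x, y}) (hi : x ^ a * x ^ a = z)
    (e : r * (x ^ b * y) * r⁻¹ = x ^ b * y ∨ r * (x ^ b * y) * r⁻¹ = z * (x ^ b * y)) :
    ∃ t, (t = 1 ∨ t = z) ∧ (r = t ∨ r = t * x ^ a ∨ r = t * (x ^ b * y) ∨ r = t * (x ^ a * (x ^ b * y))) := by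
  have key : ∀ d : ℤ, (x ^ d * (x ^ b * y) * (x ^ d)⁻¹ = x ^ b * y ∨ x ^ d * (x ^ b * y) * (x ^ d)⁻¹ = z * (x ^ b * y)) →
      ∃ t, (t = 1 ∨ t = z) ∧ (x ^ d = t ∨ x ^ d = t * x ^ a) := fun d e => by
    rw [h.cj1, show x ^ (b + 2 * d) * y = x ^ d * x ^ d * (x ^ b * y) by group] at e
    rcases e with e | e
    · exact ⟨_, h.half (mul_eq_right.1 e), .inl rfl⟩
    · refine ⟨x ^ (d - a), h.half ?_, .inr (by group)⟩
      rw [show x ^ (d - a) * x ^ (d - a) = x ^ d * x ^ d * (x ^ a * x ^ a)⁻¹ by group, mul_right_cancel e, hi,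
        mul_inv_cancel]
  obtain ⟨d, rfl | rfl⟩ := h.mem.1 hr
  · obtain ⟨t, h1, h2 | h2⟩ := key d e
    exacts [⟨t, h1, .inl h2⟩, ⟨t, h1, .inr (.inl h2)⟩]
  · have e' : x ^ d * y = x ^ (d - b) * (x ^ b * y) := by group
    rw [e', show x ^ (d - b) * (x ^ b * y) * (x ^ b * y) * (x ^ (d - b) * (x ^ b * y))⁻¹ =
      x ^ (d - b) * (x ^ b * y) * (x ^ (d - b))⁻¹ by group] at e
    obtain ⟨t, h1, h2 | h2⟩ := key _ e
    exacts [⟨t, h1, .inr (.inr (.inl (by rw [e', h2])))⟩, ⟨t, h1, .inr (.inr (.inr (by rw [e', h2, mul_assoc])))⟩]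

theorem nij (hi : x ^ a * x ^ a = z) : ¬ Commute (x ^ a) (x ^ b * y) := fun c =>
  h.z1 (hi.symm.trans (h.comm_iff.1 c))

theorem rigid (hG : IsPGroup 2 G) (hi : x ^ a * x ^ a = z) (hX : ∀ r, r ∈ X ↔ r ∈ closure {x, y} ∧
    (r * (x ^ b * y) * r⁻¹ = x ^ b * y ∨ r * (x ^ b * y) * r⁻¹ = z * (x ^ b * y))) : Rigid X := by
  have ij : x ^ a * (x ^ b * y) * (x ^ a)⁻¹ = z * (x ^ b * y) := by rw [h.cj1, ← hi]; group
  have mi : x ^ a ∈ X := (hX _).2 ⟨h.xm a, .inr ij⟩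
  have mj : x ^ b * y ∈ X := (hX _).2 ⟨h.ym b, .inl (by group)⟩
  have mz : z ∈ X := hi ▸ mul_mem mi mi
  have oz : orderOf z = 2 := orderOf_eq_prime (by rw [pow_two, h.zz]) h.z1
  have hz : ∀ t, t ∈ zpowers z ↔ t = 1 ∨ t = z := fun t =>
    ⟨fun ht => h.invol (zpowers_le.2 h.zm ht) (by
      obtain ⟨n, rfl⟩ := ht
      rw [← zpow_add, ← two_mul, zpow_mul, h.z2, one_zpow]), by rintro (rfl | rfl); exacts [one_mem _, mem_zpowers _]⟩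
  have cov := fun r hr => h.nj ((hX r).1 hr).1 hi ((hX r).1 hr).2
  have oi : orderOf (x ^ a) = 2 ^ (1 + 1) := orderOf_eq_prime_pow (by rw [pow_one, pow_two, hi]; exact h.z1)
    (by rw [show 2 ^ (1 + 1) = 2 * 2 by rfl, pow_mul, pow_two, pow_two, hi, h.zz])
  have zi : ∀ t, (t = 1 ∨ t = z) → t ∈ zpowers (x ^ a) := by
    rintro t (rfl | rfl); exacts [one_mem _, hi ▸ mul_mem (mem_zpowers _) (mem_zpowers _)]
  have nx : ∀ t ∈ zpowers (x ^ a), t * (x ^ b * y) ∉ zpowers (x ^ a) := fun t ht e => by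
    obtain ⟨n, e⟩ := (mul_mem_cancel_left ht).1 e
    exact h.ne ((zpow_mul x a n).trans e)
  have hl : zpowers (x ^ a) ≤ X := zpowers_le.2 mi
  refine rigid_of_q8 (X₀ := zpowers z) (hG.to_subgroup X) ?_ (fun r hr => (hz _).2 ?_)
    (fun r => ⟨fun hr => ⟨zpowers_le.2 mz hr, fun s hs => (h.cz1 ((hz r).1 hr) ((hX s).1 hs).1).symm⟩, fun hr =>
      (hz r).2 (h.ctr ((hX r).1 hr.1).1 (h.xm a) (h.ym b) (hr.2 _ mi).symm (hr.2 _ mj).symm (h.nij hi))⟩)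
    mi mj (fun t ht _ => (hz t).1 ht) ij ?_ fun r hr => ?_
  · rw [← card_mul_index ((zpowers (x ^ a)).subgroupOf _), Nat.card_congr (subgroupOfEquivOfLe hl).toEquiv,
      Nat.card_zpowers, Nat.card_zpowers, oi, oz, index_eq_two_iff.2 ⟨⟨_, mj⟩, fun r => ?_⟩]
    · rfl
    simp only [mem_subgroupOf, coe_mul]
    obtain ⟨t, ht, e | e | e | e⟩ := cov r r.2 <;> rw [e]
    · exact .inr ⟨zi t ht, nx t (zi t ht)⟩
    · exact .inr ⟨mul_mem (zi t ht) (mem_zpowers _), nx _ (mul_mem (zi t ht) (mem_zpowers _))⟩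
    · exact .inl ⟨by rw [mul_assoc, h.sq]; exact mul_mem (zi t ht) (zi z (.inr rfl)), nx t (zi t ht)⟩
    · refine .inl ⟨?_, mul_assoc t _ _ ▸ nx _ (mul_mem (zi t ht) (mem_zpowers _))⟩
      rw [mul_assoc, mul_assoc, h.sq]; exact mul_mem (zi t ht) (mul_mem (mem_zpowers _) (zi z (.inr rfl)))
  · obtain ⟨d, rfl | rfl⟩ := h.mem.1 ((hX r).1 hr).1
    · refine h.half (a := d + d) ?_ |>.imp (fun e => (zpow_add ..).symm.trans e) fun e => (zpow_add ..).symm.trans e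
      obtain ⟨t, ht, e | e | e | e⟩ := cov _ hr
      · rw [zpow_add, e]; rcases ht with rfl | rfl <;> simp [h.zz]
      · rw [zpow_add, e, (h.cz1 ht (h.xm a)).symm.mul_mul_mul_comm, hi]
        rcases ht with rfl | rfl <;> simp [h.zz]
      · rcases ht with rfl | rfl
        exacts [absurd (e.trans (one_mul _)) h.ne, absurd (e.trans (h.zj b)) h.ne]
      · rw [← mul_assoc (x ^ a), ← zpow_add] at e
        rcases ht with rfl | rfl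
        exacts [absurd (e.trans (one_mul _)) h.ne, absurd (e.trans (h.zj _)) h.ne]
    · exact .inr (h.sq d)
  · rw [show x ^ b * y * x ^ a * (x ^ b * y)⁻¹ = x ^ b * (y * x ^ a) * y⁻¹ * (x ^ b)⁻¹ by group, h.yz, ← h.zi, ← hi]
    group
  · obtain ⟨t, ht, e | e | e | e⟩ := cov r hr <;> rw [e] <;>
      simp only [mul_inv_cancel_right, (hz t).2 ht, true_or, or_true]

end QG

structure GS (k : ℕ) (x y ζ c z u : G) : Prop where
  pG : IsPGroup 2 G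
  q1 : QG k x y z
  q2 : QG k ζ c z
  cm : ∀ r ∈ closure ({x, y} : Set G), ∀ s ∈ closure ({ζ, c} : Set G), Commute r s
  ux : Commute u x
  uζ : Commute u ζ
  uy : ∃ e : ℤ, Odd e ∧ u * y * u⁻¹ = x ^ e * y
  uc : ∃ e : ℤ, Odd e ∧ u * c * u⁻¹ = ζ ^ e * c
  all : ∀ g, ∃ r ∈ closure ({x, y} : Set G), ∃ s ∈ closure ({ζ, c} : Set G), g = r * s ∨ g = r * s * u

namespace GS
variable (h : GS k x y ζ c z u)
include h

theorem symm : GS k ζ c x y z u :=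
  ⟨h.pG, h.q2, h.q1, fun r hr s hs => (h.cm s hs r hr).symm, h.uζ, h.ux, h.uc, h.uy, fun g =>
    let ⟨r, hr, s, hs, e⟩ := h.all g
    ⟨s, hs, r, hr, (h.cm r hr s hs).eq ▸ e⟩⟩

theorem uj (b : ℤ) : ∃ n : ℤ, u * (x ^ b * y) * u⁻¹ = x ^ (b + 2 * n + 1) * y := by
  obtain ⟨_, ⟨n, rfl⟩, e⟩ := h.uy
  refine ⟨n, ?_⟩
  rw [← conj_mul, e, (h.ux.zpow_right b).eq]; group

theorem cc (hr : r ∈ closure {x, y}) (hs : s ∈ closure {ζ, c}) (g : G) : g * s * r * (g * s)⁻¹ = g * r * g⁻¹ := by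
  rw [mul_assoc g, ← (h.cm r hr s hs).eq]; group

theorem act (g : G) : g * x * g⁻¹ = x ∨ g * x * g⁻¹ = x⁻¹ := by
  obtain ⟨r, hr, s, hs, rfl | rfl⟩ := h.all g
  · rw [h.cc h.q1.xm1 hs]; exact h.q1.act1 hr
  · rw [show r * s * u * x * (r * s * u)⁻¹ = r * s * (u * x * u⁻¹) * (r * s)⁻¹ by group, h.ux.eq,
      mul_inv_cancel_right, h.cc h.q1.xm1 hs]
    exact h.q1.act1 hr

theorem cjj (g : G) (b : ℤ) : (∃ r ∈ closure {x, y}, ∃ s ∈ closure {ζ, c}, g = r * s ∧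
    r * (x ^ b * y) * r⁻¹ = g * (x ^ b * y) * g⁻¹) ∨ ∃ n : ℤ, g * (x ^ b * y) * g⁻¹ = x ^ (b + 2 * n + 1) * y := by
  obtain ⟨r, hr, s, hs, rfl | rfl⟩ := h.all g
  · exact .inl ⟨r, hr, s, hs, rfl, (h.cc (h.q1.ym b) hs r).symm⟩
  · obtain ⟨n, e⟩ := h.uj b
    obtain ⟨m, e'⟩ := h.q1.par hr (b + 2 * n + 1)
    refine .inr ⟨n + m, ?_⟩
    rw [show r * s * u * (x ^ b * y) * (r * s * u)⁻¹ = r * s * (u * (x ^ b * y) * u⁻¹) * (r * s)⁻¹ by group, e,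
      h.cc (h.q1.ym _) hs, e']
    congr 2; ring

theorem nrm (g : G) (hr : r ∈ closure {x, y}) : g * r * g⁻¹ ∈ closure {x, y} := by
  obtain ⟨a, rfl | rfl⟩ := h.q1.mem.1 hr
  · rw [← conj_zpow]
    refine zpow_mem ?_ a
    rcases h.act g with e | e <;> rw [e]
    exacts [h.q1.xm1, inv_mem h.q1.xm1]
  · rcases h.cjj g a with ⟨r, hr', s, -, -, e⟩ | ⟨n, e⟩
    exacts [e ▸ mul_mem (mul_mem hr' hr) (inv_mem hr'), e ▸ h.q1.ym _]

theorem dec (e : s * (x ^ b * y) * s⁻¹ = x ^ b * y ∨ s * (x ^ b * y) * s⁻¹ = z * (x ^ b * y)) :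
    ∃ r ∈ closure {x, y}, ∃ t ∈ closure {ζ, c}, s = r * t ∧ r * (x ^ b * y) * r⁻¹ = s * (x ^ b * y) * s⁻¹ := by
  refine (h.cjj s b).resolve_right fun ⟨n, e'⟩ => ?_
  obtain ⟨d, hd⟩ := dvd_pow_self (2 : ℤ) (show k ≠ 0 by have := h.q1.k2; omega)
  rw [e', h.q1.zj, mul_left_inj, mul_left_inj, ord_iff h.q1.ox, ord_iff h.q1.ox] at e
  rcases e with e | e <;> have := h.q1.ev e <;> omega

theorem zC : z ∈ closure {ζ, c} := h.q2.zm

theorem cn (hp : p ∈ closure {x, y}) (hq : q ∈ closure {x, y}) (n : ¬ Commute p q) (c1 : Commute s p)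
    (c2 : Commute s q) : s ∈ closure {ζ, c} := by
  obtain ⟨b, hb⟩ : ∃ b : ℤ, Commute s (x ^ b * y) := by
    obtain ⟨a, rfl | rfl⟩ := h.q1.mem.1 hp
    · obtain ⟨d, rfl | rfl⟩ := h.q1.mem.1 hq
      exacts [absurd (Commute.zpow_zpow_self x a d) n, ⟨d, c2⟩]
    · exact ⟨a, c1⟩
  obtain ⟨r, hr, t, ht, rfl, -⟩ := h.dec (.inl (mul_inv_eq_iff_eq_mul.2 hb))
  have key : ∀ {p}, p ∈ closure {x, y} → Commute (r * t) p → Commute r p := fun hp c => by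
    simpa using c.mul_left (h.cm _ hp t ht).symm.inv_left
  rcases h.q1.ctr hr hp hq (key hp c1) (key hq c2) n with rfl | rfl
  exacts [by simpa using ht, mul_mem h.zC ht]

theorem int (hr : r ∈ closure {x, y}) (hs : r ∈ closure {ζ, c}) : r = 1 ∨ r = z :=
  h.q1.ctr hr h.q1.xm1 (h.q1.ym 0) (h.cm _ h.q1.xm1 r hs).symm (h.cm _ (h.q1.ym 0) r hs).symm (h.q1.nc 0)

theorem zs (g : G) : Commute z g := by
  refine (mul_inv_eq_iff_eq_mul.1 ((h.q1.invol (h.nrm g h.q1.zm) ?_).resolve_left ?_)).symm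
  · rw [conj_mul, h.q1.zz]; simp
  · simpa using h.q1.z1

theorem trans (a b : ℤ) : ∃ g, g * (x ^ a * y) * g⁻¹ = x ^ b * y := by
  rcases Int.even_or_odd' (b - a) with ⟨m, e | e⟩
  · exact ⟨x ^ m, by rw [h.q1.cj1]; congr 2; omega⟩
  · obtain ⟨n, e'⟩ := h.uj a
    refine ⟨x ^ (m - n) * u, ?_⟩
    rw [show x ^ (m - n) * u * (x ^ a * y) * (x ^ (m - n) * u)⁻¹ =
      x ^ (m - n) * (u * (x ^ a * y) * u⁻¹) * (x ^ (m - n))⁻¹ by group, e', h.q1.cj1]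
    congr 2; omega

theorem comm_le : ⁅(⊤ : Subgroup G), ⊤⁆ ≤ 𝐂[x] := by
  refine commutator_le.2 fun g _ t _ => mem_cent1.2 (mul_inv_eq_iff_eq_mul.1 ?_)
  have i : ∀ {g : G}, g * x * g⁻¹ = x⁻¹ → g * x⁻¹ * g⁻¹ = x := fun e => by rw [← conj_inv, e, inv_inv]
  have i' : ∀ {g : G}, g * x * g⁻¹ = x → g * x⁻¹ * g⁻¹ = x⁻¹ := fun e => by rw [← conj_inv, e]
  have j : ∀ {g v : G}, g * v * g⁻¹ = x → g⁻¹ * x * g⁻¹⁻¹ = v := fun e => by rw [← e]; group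
  have j' : ∀ {g v : G}, g * v * g⁻¹ = x⁻¹ → g⁻¹ * x⁻¹ * g⁻¹⁻¹ = v := fun e => by rw [← e]; group
  rw [commutatorElement_def, show g * t * g⁻¹ * t⁻¹ * x * (g * t * g⁻¹ * t⁻¹)⁻¹ =
    g * (t * (g⁻¹ * (t⁻¹ * x * t⁻¹⁻¹) * g⁻¹⁻¹) * t⁻¹) * g⁻¹ by group]
  rcases h.act g with e | e <;> rcases h.act t with e' | e'
  · rw [j e', j e, e', e]
  · rw [j (i e'), j' (i' e), i e', e]
  · rw [j e', j (i e), i' e', i e]
  · rw [j (i e'), j' e, e', i e]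

theorem M (o : OddAut X φ) (hR : ∀ r ∈ X, r ∈ closure {x, y} → φ r ∈ closure {x, y})
    (hn : ∃ r ∈ X, r ∈ closure {x, y} ∧ φ r ≠ r) : ∃ a b : ℤ, x ^ a * x ^ a = z ∧ x ^ a ∈ X ∧ x ^ b * y ∈ X ∧
      ∀ s ∈ X, s * (x ^ b * y) * s⁻¹ = x ^ b * y ∨ s * (x ^ b * y) * s⁻¹ = z * (x ^ b * y) := by
  obtain ⟨a, ha, na⟩ : ∃ a : ℤ, x ^ a ∈ X ∧ φ (x ^ a) ≠ x ^ a := by
    by_contra hc
    push Not at hc
    obtain ⟨r, hr, hr', n⟩ := hn
    obtain ⟨a, rfl | rfl⟩ := h.q1.mem.1 hr'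
    · exact n (hc a hr)
    obtain ⟨d, e | e⟩ := h.q1.mem.1 (hR _ hr hr')
    · have m := e ▸ o.mem _ hr
      exact h.q1.ne (o.inj _ m _ hr ((hc d m).trans e.symm))
    · have m := mul_mem (o.mem _ hr) (inv_mem hr)
      refine n (o.step _ hr ?_)
      rw [e, show x ^ d * y * (x ^ a * y)⁻¹ = x ^ (d - a) by group] at m ⊢
      exact hc _ m
  obtain ⟨b, e | e⟩ := h.q1.mem.1 (hR _ ha (h.q1.xm a))
  · exact absurd (o.cyc (zpowers x) inferInstance _ ha (zpow_mem_zpowers _ _) (e ▸ zpow_mem_zpowers _ _)) na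
  have e2 : φ (x ^ a * x ^ a) = z := by rw [o.mul _ ha _ ha, e, h.q1.sq]
  have m2 := mul_mem ha ha
  refine ⟨a, b, ?_, ha, e ▸ o.mem _ ha, fun s hs => ?_⟩
  · refine (h.q1.invol (mul_mem (h.q1.xm a) (h.q1.xm a)) (o.inj _ (mul_mem m2 m2) _ (one_mem _) ?_)).resolve_left
      fun e' => h.q1.z1 ?_
    · rw [o.mul _ m2 _ m2, e2, h.q1.zz, o.one]
    · rw [← e2, e', o.one]
  · obtain ⟨t, ht, rfl⟩ := o.surj s hs
    have e3 : φ t * (x ^ b * y) * (φ t)⁻¹ = φ (t * x ^ a * t⁻¹) := by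
      rw [o.mul _ (mul_mem ht ha) _ (inv_mem ht), o.mul _ ht _ ha, o.inv ht, e]
    rw [e3, ← conj_zpow]
    rcases h.act t with e' | e' <;> rw [e']
    · exact .inl e
    · right; rw [inv_zpow, o.inv ha, e, h.q1.inv2, h.q1.zj]

theorem M1 (o : OddAut X φ) (hR : ∀ r ∈ X, r ∈ closure {x, y} → φ r ∈ closure {x, y}) (hx : x ∈ X) :
    ∀ r ∈ X, r ∈ closure {x, y} → φ r = r := by
  by_contra hc
  push Not at hc
  obtain ⟨a, b, -, -, -, e⟩ := h.M o hR hc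
  have e := e x hx
  obtain ⟨m, rfl⟩ : ∃ m, k = m + 2 := ⟨k - 2, by have := h.q1.k2; omega⟩
  rw [← zpow_one x, ← zpow_mul, one_mul, h.q1.cj1, h.q1.zj, mul_left_inj, mul_left_inj, ord_iff h.q1.ox,
    ord_iff h.q1.ox, pow_add (2 : ℤ) m 2] at e
  rcases e with e | e <;> have := h.q1.ev e <;> omega

theorem M2 (hi : x ^ a * x ^ a = z) (mi : x ^ a ∈ X) (mj : x ^ b * y ∈ X) (hr : r ∈ closure {x, y})
    (e : r * (x ^ b * y) * r⁻¹ = x ^ b * y ∨ r * (x ^ b * y) * r⁻¹ = z * (x ^ b * y)) : r ∈ X := by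
  obtain ⟨t, ht, e⟩ := h.q1.nj hr hi e
  have : t ∈ X := by rcases ht with rfl | rfl; exacts [one_mem _, hi ▸ mul_mem mi mi]
  rcases e with rfl | rfl | rfl | rfl
  exacts [this, mul_mem this mi, mul_mem this mj, mul_mem this (mul_mem mi mj)]

theorem M3 (o : OddAut X φ) (hR : ∀ r ∈ X, r ∈ closure {x, y} → φ r ∈ closure {x, y})
    (hn : ∃ r ∈ X, r ∈ closure {x, y} ∧ φ r ≠ r) :
    (∃ p ∈ X ⊓ closure {x, y}, ∃ q ∈ X ⊓ closure {x, y}, ¬ Commute p q) ∧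
      ∀ s ∈ X, ∃ r ∈ X ⊓ closure {x, y}, ∃ t ∈ X ⊓ closure {ζ, c}, s = r * t := by
  obtain ⟨a, b, hi, mi, mj, e⟩ := h.M o hR hn
  refine ⟨⟨_, ⟨mi, h.q1.xm a⟩, _, ⟨mj, h.q1.ym b⟩, h.q1.nij hi⟩, fun s hs => ?_⟩
  obtain ⟨r, hr, t, ht, e1, e2⟩ := h.dec (e s hs)
  have m := h.M2 hi mi mj hr (e2 ▸ e s hs)
  exact ⟨r, ⟨m, hr⟩, t, ⟨(mul_mem_cancel_left m).1 (e1 ▸ hs), ht⟩, e1⟩

theorem M4 (o : OddAut X φ) (hX : X ≤ closure {x, y}) (hn : ∃ r ∈ X, φ r ≠ r) : Rigid X ∧ ∃ b : ℤ, ∀ r, r ∈ X ↔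
    r ∈ closure {x, y} ∧ (r * (x ^ b * y) * r⁻¹ = x ^ b * y ∨ r * (x ^ b * y) * r⁻¹ = z * (x ^ b * y)) := by
  obtain ⟨a, b, hi, mi, mj, e⟩ := h.M o (fun r hr _ => hX (o.mem r hr)) (let ⟨r, h1, h2⟩ := hn; ⟨r, h1, hX h1, h2⟩)
  have := fun r => (⟨fun hr => ⟨hX hr, e r hr⟩, fun hr => h.M2 hi mi mj hr.1 hr.2⟩ : r ∈ X ↔ _ ∧ _)
  exact ⟨h.q1.rigid h.pG hi this, b, this⟩

theorem presC (h1 : HomOn σ X) (hp : p ∈ X) (hq : q ∈ X) (hp1 : p ∈ closure {x, y}) (hq1 : q ∈ closure {x, y})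
    (hp2 : σ p ∈ closure {x, y}) (hq2 : σ q ∈ closure {x, y}) (n : ¬ Commute p q) (hs : s ∈ X)
    (hs' : s ∈ closure {ζ, c}) : σ s ∈ closure {ζ, c} := by
  have key : ∀ {p q : G}, p ∈ X → q ∈ X → (Commute (σ p) (σ q) ↔ Commute p q) := fun hp hq => by
    rw [Commute, SemiconjBy, ← h1 hp hq, ← h1 hq hp, σ.apply_eq_iff_eq]; rfl
  exact h.cn hp2 hq2 (mt (key hp hq).1 n) ((key hs hp).2 (h.cm _ hp1 _ hs').symm)
    ((key hs hq).2 (h.cm _ hq1 _ hs').symm)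

end GS

end Cfsg.Agent.Wz
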