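import Cfsg.Agent.Wz.U1
import Cfsg.Agent.H2.Ctl

/-! `UNI`, fusion part: a standard system is determined by its group data. -/

set_option autoImplicit false
set_option linter.unusedSectionVars false

namespace Cfsg.Agent.Wz

open Subgroup Equiv Cfsg.Fus Cfsg.Agent.FT Cfsg.Agent.H6 Cfsg.FusionSystem

variable {G : Type*} [Group G] [Finite G] {k : ℕ} {x y z ζ c u w r s : G} {X R C M : Subgroup G}
  {σ τ α β : Perm G} {F E D : FusionSystem (⊤ : Subgroup G)}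

theorem le_of_odd' (hG : IsPGroup 2 G) (hF : F.IsSaturated 2) (h : ∀ X, F.IsCentric X → F.IsRadical 2 X →
    ∀ σ : Perm G, F.Iso X X σ → Odd (orderOf σ) → E.IsMap X σ) : F ≤ E := by
  have hS := hG.to_subgroup ⊤
  refine hF.le_of_autGroup_le hS fun X hX => ?_
  obtain ⟨h1, h2, h3⟩ := hF.frc_of_alperin hS hX
  obtain ⟨hXS, P, hP⟩ := h1.isFullyAutomized hF hS
  refine le_of_sylow_of_coprime (IsSylowIn.of_sylow P) ?_ fun α hα ho => mem_autGroup_of_rep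
    (h X h2 h3 _ ((mem_autGroup_iff hXS).1 hα) ?_) fun g => (extAut_coe α g).symm
  · rw [hP, Subgroup.subgroupOf_map_subtype]
    exact inf_le_left.trans (E.autInducedBy_le_autGroup hXS)
  · rw [orderOf_injective _ (extAut_injective X)]; exact Nat.coprime_two_right.1 ho

theorem mem_of_odd {U : Subgroup (Perm G)} (ho : Odd (orderOf σ)) {n : ℕ} (h : σ ^ 2 ^ n ∈ U) : σ ∈ U :=
  mem_of_pow_of_coprime ((Nat.coprime_two_right.2 ho).pow_right n) (by rw [pow_orderOf_eq_one]; exact one_mem _) h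

/-- a nontrivial odd automorphism of `X ≤ R` extended by the identity of `C` -/
def Gd (E : FusionSystem (⊤ : Subgroup G)) (R C X : Subgroup G) (β : Perm G) : Prop :=
  X ≤ R ∧ E.Iso (X ⊔ C) (X ⊔ C) β ∧ (∀ r ∈ X, β r ∈ X) ∧ β ∈ fixP C ∧ Odd (orderOf β) ∧ β ∉ fixP X

/-- odd automorphisms of subgroups of `R` extend by the identity of `C` -/
def Ex (E : FusionSystem (⊤ : Subgroup G)) (R C : Subgroup G) : Prop :=
  ∀ X ≤ R, ∀ σ : Perm G, HomOn σ X → (∀ r ∈ X, σ r ∈ X) → Odd (orderOf σ) →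
    ∃ τ : Perm G, E.IsMap (X ⊔ C) τ ∧ (∀ r ∈ X, τ r = σ r) ∧ τ ∈ fixP C

theorem not_fixP (h : σ ∉ fixP X) : ∃ r ∈ X, σ r ≠ r := by
  by_contra hc
  push Not at hc
  exact h hc

namespace GS
variable (h : GS k x y ζ c z u)
include h

theorem gd (hX : X ≤ closure {x, y}) (h1 : E.IsMap (X ⊔ closure {ζ, c}) τ) (h2 : ∀ r ∈ X, τ r ∈ X)
    (h3 : ∀ r ∈ closure {ζ, c}, τ r ∈ closure {ζ, c}) (h4 : ∀ n, τ ^ 2 ^ n ∉ fixP X) :
    ∃ β, Gd E (closure {x, y}) (closure {ζ, c}) X β := by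
  obtain ⟨n, o⟩ := H4.exists_odd_pow τ
  have i := (h1.iso_self (h1.homOn.mapsTo_sup (fun r hr => mem_sup_left (h2 r hr))
    fun r hr => mem_sup_right (h3 r hr))).pow (2 ^ n)
  have m : ∀ {Y : Subgroup G}, (∀ r ∈ Y, τ r ∈ Y) → ∀ r ∈ Y, (τ ^ 2 ^ n) r ∈ Y := fun hY r hr =>
    (pow_mem (mem_setStab_of_finite hY) _ r).2 hr
  exact ⟨_, hX, i, m h2, fun r hr => h.symm.M1 (oddAut_perm h.pG (i.homOn.mono le_sup_right) (m h3) o)
    (fun r hr _ => m h3 r hr) h.q2.xm1 r hr hr, o, h4 n⟩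

theorem ex (g : Gd E (closure {x, y}) (closure {ζ, c}) X β) : Ex E (closure {x, y}) (closure {ζ, c}) := by
  intro Y hY σ h1 h2 ho
  by_cases hσ : σ ∈ fixP Y
  · exact ⟨1, E.isMap_one le_top, fun r hr => (hσ r hr).symm, one_mem _⟩
  obtain ⟨g1, g2, g3, g4, g5, g6⟩ := g
  obtain ⟨rg, b', e'⟩ := h.M4 (oddAut_perm h.pG h1 h2 ho) hY (not_fixP hσ)
  obtain ⟨-, b, e⟩ := h.M4 (oddAut_perm h.pG (g2.homOn.mono le_sup_left) g3 g5) g1 (not_fixP g6)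
  obtain ⟨t, ht⟩ := h.trans b b'
  have hz : t * z * t⁻¹ = z := by rw [← (h.zs t).eq, mul_inv_cancel_right]
  have m : ∀ r, t * r * t⁻¹ ∈ Y ↔ r ∈ X := fun r => by
    rw [e, e', ← ht, show ∀ j : G, t * r * t⁻¹ * (t * j * t⁻¹) * (t * r * t⁻¹)⁻¹ = t * (r * j * r⁻¹) * t⁻¹ from
      fun j => by group]
    conv_lhs => rw [← hz, conj_mul]
    simp only [mul_left_inj, mul_right_inj]
    exact and_congr_left' ⟨fun hr => by simpa [mul_assoc] using h.nrm t⁻¹ hr, h.nrm t⟩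
  have m' : ∀ r ∈ Y, t⁻¹ * r * t ∈ X := fun r hr => (m _).1 (by simpa [mul_assoc] using hr)
  have mC : ∀ r ∈ closure {ζ, c}, t⁻¹ * r * t ∈ closure {ζ, c} := fun r hr => by simpa using h.symm.nrm t⁻¹ hr
  have b1 : E.IsMap (Y ⊔ closure {ζ, c}) ⇑(cj t * β * (cj t)⁻¹) :=
    ((cjm E t).mono le_top).iso.conj g2 |>.isMap.mono (sup_le (fun r hr => mem_img_cj.2 (mem_sup_left (m' r hr)))
      fun r hr => mem_img_cj.2 (mem_sup_right (mC r hr)))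
  have b0 : ∀ r, (cj t * β * (cj t)⁻¹) r = t * β (t⁻¹ * r * t) * t⁻¹ := fun r => by
    rw [Perm.mul_apply, Perm.mul_apply, cj_inv_apply, cj_apply]
  have b2 : ∀ r ∈ Y, (cj t * β * (cj t)⁻¹) r ∈ Y := fun r hr => b0 r ▸ (m _).2 (g3 _ (m' r hr))
  have b3 : cj t * β * (cj t)⁻¹ ∈ fixP (closure {ζ, c}) := fun r hr => by
    rw [b0, g4 _ (mC r hr)]; group
  set β' := cj t * β * (cj t)⁻¹ with hβ'
  have a1 : β' ∈ autStab Y := ⟨b1.homOn.mono le_sup_left, mem_setStab_of_finite b2⟩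
  have a2 : σ ∈ autStab Y := ⟨h1, mem_setStab_of_finite h2⟩
  have od : ∀ {σ : Perm G}, σ ∈ autStab Y → Odd (orderOf σ) → Odd (orderOf (resAut Y σ)) := fun ha ho => by
    rw [resAut_eq ha]; exact odd_map _ (by rwa [orderOf_mk])
  have r1 := rg _ _ (od a2 ho) (od a1 (by rwa [hβ', orderOf_conj])) fun e1 => g6 fun r hr => by
    simpa [mul_assoc] using (b0 _).symm.trans ((resAut_eq_one_iff a1).1 e1 _ ((m r).2 hr))
  let U := E.stab (Y ⊔ closure {ζ, c}) ⊓ fixP (closure {ζ, c})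
  have r2 : Inn Y ⊔ zpowers (resAut Y β') ≤ (U.subgroupOf (autStab Y)).map (resHom Y) := by
    refine sup_le (fun γ hγ => ?_) (zpowers_le.2 ⟨⟨_, a1⟩, ⟨(b1.iso_self (b1.homOn.mapsTo_sup
      (fun r hr => mem_sup_left (b2 r hr)) fun r hr => mem_sup_right ((b3 r hr).symm ▸ hr))).mem_stab, b3⟩,
      (resAut_eq a1).symm⟩)
    obtain ⟨q, hq, e⟩ := mem_Inn_iff.1 hγ
    exact ⟨⟨cj q, cj_mem_autStab.2 (le_normalizer hq)⟩, ⟨(E.iso_cj le_top trivial (le_normalizer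
      (mem_sup_left hq))).mem_stab, fun r hr => mul_inv_eq_iff_eq_mul.2 (h.cm q (hY hq) r hr)⟩,
      MulEquiv.ext fun r => Subtype.ext (e r).symm⟩
  obtain ⟨τ, ⟨t1, t2⟩, t3⟩ := r2 r1
  exact ⟨τ, ((mem_stab le_top).1 t1).isMap, (resAut_congr τ.2 a2).1 ((resAut_eq τ.2).trans t3), t2⟩

theorem R_le (sc : D.StronglyClosed (closure {x, y})) (hc : D.IsCentric X) (hr : D.IsRadical 2 X)
    (hn : ∀ τ, D.Iso X X τ → Odd (orderOf τ) → τ ∈ fixP (X ⊓ closure {x, y})) : closure {x, y} ≤ X := by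
  have hS := h.pG.to_subgroup ⊤
  refine hc.le_of_radical hr hS le_top (fun g _ => mem_normalizer_of_finite fun r => h.nrm g) fun g hg hg' => ?_
  refine le_opStab (U := D.stab X ⊓ trivOn (closure {x, y}) X) le_top inf_le_left (fun τ hτ => ?_)
    (fun τ hτ v hv => ⟨mul_mem (mul_mem hτ.mem_stab hv.1) hτ.symm.mem_stab,
      conj_mem_trivOn hv.2 hτ.mem_autStab fun r h1 h2 => sc.mem hτ.isMap h2 h1⟩)
    ⟨(D.iso_cj le_top trivial hg').mem_stab, cj_mem_autStab.2 hg', fun r _ => ?_⟩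
  · obtain ⟨n, o⟩ := H4.exists_odd_pow τ
    exact exists_pow_mem_fixP_of_trivOn (h.pG.to_subgroup X) hτ.2
      (inf_comm X _ ▸ hn _ (((mem_stab le_top).1 hτ.1).pow _) o)
  · simpa [mul_assoc] using mul_mem (h.nrm r⁻¹ hg) (inv_mem hg)

theorem SL (sc : D.StronglyClosed (closure {x, y})) (hc : D.IsCentric X) (hr : D.IsRadical 2 X)
    (hσ : D.Iso X X σ) (ho : Odd (orderOf σ)) : (∀ s ∈ X ⊓ closure {ζ, c}, σ s ∈ X ⊓ closure {ζ, c}) ∧
      ((∀ s ∈ X, ∃ r ∈ X ⊓ closure {x, y}, ∃ t ∈ X ⊓ closure {ζ, c}, s = r * t) ∨ σ ∈ fixP X) := by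
  have oa : ∀ {τ}, D.Iso X X τ → Odd (orderOf τ) → OddAut X τ := fun hτ => oddAut_perm h.pG hτ.homOn fun _ => hτ.mem
  have pc : ∀ {p q}, p ∈ X ⊓ closure {x, y} → q ∈ X ⊓ closure {x, y} → ¬ Commute p q →
      ∀ s ∈ X ⊓ closure {ζ, c}, σ s ∈ X ⊓ closure {ζ, c} := fun hp hq n s hs =>
    ⟨hσ.mem hs.1, h.presC hσ.homOn hp.1 hq.1 hp.2 hq.2 (sc.mem hσ.isMap hp.1 hp.2) (sc.mem hσ.isMap hq.1 hq.2) n
      hs.1 hs.2⟩
  by_cases hn : ∀ τ, D.Iso X X τ → Odd (orderOf τ) → τ ∈ fixP (X ⊓ closure {x, y})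
  · have hR := h.R_le sc hc hr hn
    have h1 := pc ⟨hR h.q1.xm1, h.q1.xm1⟩ ⟨hR (h.q1.ym 0), h.q1.ym 0⟩ (h.q1.nc 0)
    refine ⟨h1, ?_⟩
    by_cases h2 : σ ∈ fixP (X ⊓ closure {ζ, c})
    · have h3 : ∀ r ∈ closure {x, y}, ∀ t ∈ closure {ζ, c}, r * t ∈ X → σ (r * t) = r * t := fun r hr t ht m => by
        have m' := (mul_mem_cancel_left (hR hr)).1 m
        rw [hσ.homOn (hR hr) m', hn σ hσ ho r ⟨hR hr, hr⟩, h2 t ⟨m', ht⟩]
      refine .inr fun s hs => ?_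
      obtain ⟨r, hr, t, ht, rfl | e⟩ := h.all s
      · exact h3 r hr t ht hs
      obtain ⟨r', hr', t', ht', e' | e'⟩ := h.all (σ s)
      · exact σ.injective (by rw [e', h3 r' hr' t' ht' (e' ▸ hσ.mem hs)])
      have m := mul_mem (hσ.mem hs) (inv_mem hs)
      have e2 : σ s * s⁻¹ = r' * r⁻¹ * (t' * t⁻¹) := by
        rw [e', e, mul_assoc r' r⁻¹, (h.cm _ (inv_mem hr) _ (mul_mem ht' (inv_mem ht))).eq]; group
      refine (oa hσ ho).step s hs ?_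
      rw [e2] at m ⊢
      exact h3 _ (mul_mem hr' (inv_mem hr)) _ (mul_mem ht' (inv_mem ht)) m
    · obtain ⟨s, hs, n⟩ := not_fixP h2
      refine .inl fun g hg => ?_
      obtain ⟨t, ht, r, hr, e⟩ := (h.symm.M3 (oa hσ ho) (fun r h3 h4 => (h1 r ⟨h3, h4⟩).2) ⟨s, hs.1, hs.2, n⟩).2 g hg
      exact ⟨r, hr, t, ht, e.trans (h.cm r hr.2 t ht.2).eq.symm⟩
  · push Not at hn
    obtain ⟨τ, t1, t2, t3⟩ := hn
    obtain ⟨s, hs, n⟩ := not_fixP t3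
    obtain ⟨⟨p, hp, q, hq, n⟩, e⟩ := h.M3 (oa t1 t2) (fun r => sc.mem t1.isMap) ⟨s, hs.1, hs.2, n⟩
    exact ⟨pc hp hq n, .inl e⟩

theorem le_of_ex (hD : D.IsSaturated 2) (sc : D.StronglyClosed (closure {x, y}))
    (e1 : Ex E (closure {x, y}) (closure {ζ, c})) (e2 : Ex E (closure {ζ, c}) (closure {x, y})) : D ≤ E := by
  refine le_of_odd' h.pG hD fun X hc hr σ hσ ho => ?_
  obtain ⟨h1, h2 | h2⟩ := h.SL sc hc hr hσ ho
  swap
  · exact E.isMap_of_fix le_top h2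
  obtain ⟨τ, t1, t2, t3⟩ := e1 _ inf_le_right σ (hσ.homOn.mono inf_le_left)
    (fun r hr => ⟨hσ.mem hr.1, sc.mem hσ.isMap hr.1 hr.2⟩) ho
  obtain ⟨ρ, r1, r2, r3⟩ := e2 _ inf_le_right σ (hσ.homOn.mono inf_le_left) h1 ho
  have m : X ≤ X ⊓ closure {ζ, c} ⊔ closure {x, y} := fun s hs => by
    obtain ⟨r, hr, t, ht, rfl⟩ := h2 s hs
    exact mul_mem (mem_sup_right hr.2) (mem_sup_left ht)
  have e : ∀ r ∈ X ⊓ closure {x, y}, ∀ t ∈ X ⊓ closure {ζ, c}, ρ (r * t) = r * σ t := fun r hr t ht => by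
    rw [r1.homOn (mem_sup_right hr.2) (mem_sup_left ht), r3 r hr.2, r2 t ht]
  refine ((r1.mono m).mul t1 fun s hs => ?_).congr fun s hs => ?_ <;> obtain ⟨r, hr, t, ht, rfl⟩ := h2 s hs
  · rw [e r hr t ht]; exact mul_mem (mem_sup_left hr) (mem_sup_right (h1 t ht).2)
  · rw [Perm.mul_apply, e r hr t ht, t1.homOn (mem_sup_left hr) (mem_sup_right (h1 t ht).2), t2 r hr,
      t3 _ (h1 t ht).2, hσ.homOn hr.1 ht.1]

/-- either some quaternion subgroup of `R` is moved, or `D` preserves `C(x)` -/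
theorem E1 (hD : D.IsSaturated 2) (sc : D.StronglyClosed (closure {x, y})) :
    (∃ X β, Gd D (closure {x, y}) (closure {ζ, c}) X β) ∨ D ≤ H2.focSys ⊤ 𝐂[x] h.comm_le := by
  refine or_iff_not_imp_left.2 fun hn => le_of_odd' h.pG hD fun X hc hr σ hσ ho => ?_
  have key : ∀ τ, D.Iso X X τ → Odd (orderOf τ) → τ ∈ fixP (X ⊓ closure {x, y}) := fun τ t1 t2 => by
    by_contra t3
    obtain ⟨s, hs, n⟩ := not_fixP t3
    obtain ⟨⟨p, hp, q, hq, n⟩, -⟩ := h.M3 (oddAut_perm h.pG t1.homOn (fun _ => t1.mem) t2)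
      (fun r => sc.mem t1.isMap) ⟨s, hs.1, hs.2, n⟩
    have m : ∀ r ∈ X ⊓ closure {x, y}, τ r ∈ X ⊓ closure {x, y} := fun r hr =>
      ⟨t1.mem hr.1, sc.mem t1.isMap hr.1 hr.2⟩
    have l : closure {ζ, c} ≤ centralizerIn ⊤ (X ⊓ closure {x, y}) := fun t ht =>
      ⟨trivial, fun r hr => h.cm r hr.2 t ht⟩
    have fc : D.IsFullyCentralized (X ⊓ closure {x, y}) := ⟨le_top, fun Q hQ => card_le_of_le fun t ht => l (by
      obtain ⟨ψ, hψ⟩ := hQ.exists_iso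
      exact h.cn (sc.mem hψ.isMap hp hp.2) (sc.mem hψ.isMap hq hq.2) (mt (hψ.isMap.comm hp hq).1 n)
        (ht.2 _ (hψ.mem hp)).symm (ht.2 _ (hψ.mem hq)).symm)⟩
    obtain ⟨ρ, r1, r2⟩ := (fc.isReceptive hD (h.pG.to_subgroup ⊤)).exists_ext_centralizer
      ((t1.isMap.mono inf_le_left).iso_self m)
    replace r1 := r1.mono (sup_le_sup_left l _)
    refine hn ⟨_, h.gd inf_le_right r1 (fun r hr => r2 r hr ▸ m r hr) (fun t ht => h.presC r1.homOn (mem_sup_left hp)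
      (mem_sup_left hq) hp.2 hq.2 (r2 p hp ▸ (m p hp).2) (r2 q hq ▸ (m q hq).2) n (mem_sup_right ht) ht)
      fun n e => t3 (mem_of_odd t2 (n := n) fun r hr => (?_ : _ = (ρ ^ 2 ^ n) r).trans (e r hr))⟩
    induction 2 ^ n with
    | zero => rfl
    | succ i ih =>
      rw [pow_succ', pow_succ', Perm.mul_apply, Perm.mul_apply, ← ih,
        r2 _ ((pow_mem (mem_setStab_of_finite m) _ r).2 hr)]
  have hx := h.R_le sc hc hr key h.q1.xm1
  have ex := key σ hσ ho x ⟨hx, h.q1.xm1⟩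
  refine (PermData.isMap_toSystem _).2 ⟨hσ.homOn, le_top, fun _ _ => trivial, fun s hs => mem_cent1.2 ?_⟩
  have e := hσ.homOn.map_conj hs hx
  have e' : σ (s * x * s⁻¹) = s * x * s⁻¹ := by
    rcases h.act s with e | e <;> rw [e]
    exacts [ex, by rw [hσ.homOn.map_inv hx, ex]]
  rw [ex, e'] at e
  rw [mul_assoc, mul_inv_eq_iff_eq_mul.1 e.symm]; group

end GS

end Cfsg.Agent.Wz
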