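import Cfsg.Agent.Wz.J
import Cfsg.Agent.L.Transport

/-! Transport of the standard configuration (for `S5176`). -/

set_option autoImplicit false
set_option linter.unusedSectionVars false

namespace Cfsg.Agent.Wz

open Subgroup Equiv Cfsg.Fus Cfsg.Agent.FT Cfsg.FusionSystem Cfsg.Agent.L

universe u v

theorem v_tor {H : Type*} [Group H] {x u t : H} (ux : Commute u x) (ht : t ∈ closure {x, u}) :
    ∃ a b : ℤ, t = x ^ a * u ^ b := by
  induction ht using closure_induction with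
  | mem g hg =>
    rcases hg with rfl | rfl
    exacts [⟨1, 0, by simp⟩, ⟨0, 1, by simp⟩]
  | one => exact ⟨0, 0, by simp⟩
  | mul g g' _ _ h1 h2 =>
    obtain ⟨a, b, rfl⟩ := h1
    obtain ⟨c, d, rfl⟩ := h2
    exact ⟨a + c, b + d, by
      rw [zpow_add, zpow_add, mul_assoc, ← mul_assoc (u ^ b), (ux.zpow_zpow b c).eq]; group⟩
  | inv g _ h =>
    obtain ⟨a, b, rfl⟩ := h
    exact ⟨-a, -b, by rw [mul_inv_rev, ← zpow_neg, ← zpow_neg, (ux.zpow_zpow _ _).eq]⟩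

theorem v_nf {H : Type*} [Group H] {x y u w g : H} {n : ℕ} (yx : y * x * y⁻¹ = x⁻¹) (yy : y * y = x ^ n)
    (yu : y * u * y⁻¹ = x * u) (ww : w * w = 1) (wx : w * x * w⁻¹ = x⁻¹) (wu : w * u * w⁻¹ = u⁻¹)
    (wy : Commute w y) (hg : g ∈ closure {x, y, u, w}) :
    ∃ t ∈ closure {x, u}, g = t ∨ g = t * w ∨ g = t * y ∨ g = t * w * y := by
  have mx : x ∈ closure {x, u} := subset_closure (by simp)
  have mu : u ∈ closure {x, u} := subset_closure (by simp)
  have cj : ∀ {s : H}, s * x * s⁻¹ ∈ closure {x, u} → s * u * s⁻¹ ∈ closure {x, u} →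
      ∀ t ∈ closure {x, u}, s * t * s⁻¹ ∈ closure {x, u} := fun {s} h1 h2 t ht => by
    have : closure {x, u} ≤ (closure {x, u}).comap (MulAut.conj s).toMonoidHom :=
      (closure_le _).2 (by rintro _ (rfl | rfl); exacts [h1, h2])
    exact this ht
  have cw := cj (wx ▸ inv_mem mx) (wu ▸ inv_mem mu)
  have cy := cj (yx ▸ inv_mem mx) (yu ▸ mul_mem mx mu)
  have hT : ∀ {s g : H}, s ∈ closure {x, u} →
      (∃ t ∈ closure {x, u}, g = t ∨ g = t * w ∨ g = t * y ∨ g = t * w * y) →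
      ∃ t ∈ closure {x, u}, s * g = t ∨ s * g = t * w ∨ s * g = t * y ∨ s * g = t * w * y := by
    rintro s g hs ⟨t, ht, h⟩
    refine ⟨s * t, mul_mem hs ht, ?_⟩
    rcases h with rfl | rfl | rfl | rfl <;> simp [mul_assoc]
  have hW : ∀ {g : H}, (∃ t ∈ closure {x, u}, g = t ∨ g = t * w ∨ g = t * y ∨ g = t * w * y) →
      ∃ t ∈ closure {x, u}, w * g = t ∨ w * g = t * w ∨ w * g = t * y ∨ w * g = t * w * y := by
    rintro g ⟨t, ht, h⟩
    refine ⟨_, cw t ht, ?_⟩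
    have wi : w⁻¹ = w := inv_eq_of_mul_eq_one_right ww
    rcases h with rfl | rfl | rfl | rfl
    · exact .inr (.inl (by group))
    · exact .inl (by rw [wi, mul_assoc])
    · exact .inr (.inr (.inr (by group)))
    · exact .inr (.inr (.inl (by rw [wi]; group)))
  have hY : ∀ {g : H}, (∃ t ∈ closure {x, u}, g = t ∨ g = t * w ∨ g = t * y ∨ g = t * w * y) →
      ∃ t ∈ closure {x, u}, y * g = t ∨ y * g = t * w ∨ y * g = t * y ∨ y * g = t * w * y := by
    rintro g ⟨t, ht, h⟩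
    rcases h with rfl | rfl | rfl | rfl
    · exact ⟨_, cy _ ht, .inr (.inr (.inl (by group)))⟩
    · exact ⟨_, cy _ ht, .inr (.inr (.inr (by rw [mul_assoc _ w, wy.eq]; group)))⟩
    · exact ⟨_, mul_mem (cy _ ht) (pow_mem mx n), .inl (by rw [← yy]; group)⟩
    · refine ⟨_, mul_mem (cy _ ht) (cw _ (pow_mem mx n)), .inr (.inl ?_)⟩
      rw [← yy]
      calc y * (t * w * y) = y * t * y⁻¹ * (y * w) * y := by group
        _ = _ := by rw [← wy.eq]; group
  induction hg using closure_induction_left with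
  | one => exact ⟨1, one_mem _, .inl rfl⟩
  | mul_left s hs g _ h =>
    rcases hs with rfl | rfl | rfl | rfl
    exacts [hT mx h, hY h, hT mu h, hW h]
  | inv_mul_cancel s hs g _ h =>
    rcases hs with rfl | rfl | rfl | rfl
    · exact hT (inv_mem mx) h
    · have := hT (inv_mem (pow_mem mx n)) (hY h)
      rwa [← yy, show (s * s)⁻¹ * (s * g) = s⁻¹ * g by group] at this
    · exact hT (inv_mem mu) h
    · rw [inv_eq_of_mul_eq_one_right ww]; exact hW h

variable {G : Type u} {G' : Type v} [Group G] [Finite G] [Group G'] [Finite G']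
  {F : FusionSystem (⊤ : Subgroup G)} {F' : FusionSystem (⊤ : Subgroup G')} {k : ℕ} {x y z u w : G}
  {α : Perm G} {x' y' z' u' w' : G'} {α' : Perm G'}

theorem Std.one_iff (h : Std F k x y z u w α) {a b : ℤ} :
    x ^ a * u ^ b = 1 ↔ (2 : ℤ) ^ (k + 1) ∣ a ∧ (2 : ℤ) ^ (k + 1) ∣ b := by
  rw [← ord_one h.hyp.ox, ← ord_one h.ou]
  refine ⟨fun e => ?_, fun e => by rw [e.1, e.2, mul_one]⟩
  have := h.ind a (-b) (by rw [zpow_neg]; exact eq_inv_of_mul_eq_one_left e)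
  exact ⟨this, by rwa [this, one_mul] at e⟩

theorem Std.ne_one (h : Std F k x y z u w α) (a b : ℤ) : x ^ a * u ^ b * w ≠ 1 ∧
    x ^ a * u ^ b * y ≠ 1 ∧ x ^ a * u ^ b * w * y ≠ 1 := by
  have cx : Commute (x ^ a * u ^ b) x := ((Commute.refl x).zpow_left a).mul_left (h.ux.zpow_left b)
  have cu : Commute (x ^ a * u ^ b) u := (h.ux.symm.zpow_left a).mul_left ((Commute.refl u).zpow_left b)
  have k : ∀ {s : G}, x ^ a * u ^ b * s = 1 → s * x * s⁻¹ ≠ x⁻¹ := fun {s} e e' => by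
    rw [eq_inv_of_mul_eq_one_right e, cx.inv_left.eq, mul_inv_cancel_right] at e'
    exact h.hyp.qg.x2 (by nth_rw 1 [e']; exact inv_mul_cancel x)
  refine ⟨fun e => k e h.wx, fun e => k e h.hyp.yx, fun e => ?_⟩
  rw [mul_assoc] at e
  have e1 : w * y * u * (w * y)⁻¹ = u := by
    rw [eq_inv_of_mul_eq_one_right e, cu.inv_left.eq, mul_inv_cancel_right]
  have e2 : w * y * u * (w * y)⁻¹ = x⁻¹ * u⁻¹ := by
    rw [← h.wx, ← h.wu, show w * y * u * (w * y)⁻¹ = w * (y * u * y⁻¹) * w⁻¹ by group, h.yu]; group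
  have := h.ind (-1) 2 (by rw [zpow_neg_one, zpow_two]; nth_rw 1 [← e1]; rw [e2, inv_mul_cancel_right])
  rw [zpow_neg_one, inv_eq_one] at this
  exact h.hyp.qg.x2 (by rw [this, mul_one])

theorem Std.exists_iso (h : Std F k x y z u w α) (h' : Std F' k x' y' z' u' w' α') :
    ∃ θ : G ≃* G', θ x = x' ∧ θ y = y' ∧ θ u = u' ∧ θ w = w' := by
  let Γ : Subgroup (G × G') := closure {(x, x'), (y, y'), (u, u'), (w, w')}
  have nf : ∀ g ∈ Γ, ∃ a b : ℤ, g = (x ^ a * u ^ b, x' ^ a * u' ^ b) ∨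
      g = (x ^ a * u ^ b * w, x' ^ a * u' ^ b * w') ∨ g = (x ^ a * u ^ b * y, x' ^ a * u' ^ b * y') ∨
      g = (x ^ a * u ^ b * w * y, x' ^ a * u' ^ b * w' * y') := fun g hg => by
    obtain ⟨t, ht, e⟩ := v_nf (x := (x, x')) (y := (y, y')) (u := (u, u')) (w := (w, w')) (n := 2 ^ k) (Prod.ext h.hyp.yx h'.hyp.yx)
      (Prod.ext (h.hyp.yy.trans h.hyp.hz) (h'.hyp.yy.trans h'.hyp.hz)) (Prod.ext h.yu h'.yu)
      (Prod.ext h.ww h'.ww) (Prod.ext h.wx h'.wx) (Prod.ext h.wu h'.wu) (h.wy.prod h'.wy) hg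
    obtain ⟨a, b, rfl⟩ := v_tor (h.ux.prod h'.ux) ht
    exact ⟨a, b, e⟩
  have mx : (x, x') ∈ Γ := subset_closure (by simp)
  have my : (y, y') ∈ Γ := subset_closure (by simp)
  have mu : (u, u') ∈ Γ := subset_closure (by simp)
  have mw : (w, w') ∈ Γ := subset_closure (by simp)
  have mt : ∀ a b : ℤ, (x, x') ^ a * (u, u') ^ b ∈ Γ := fun a b => mul_mem (zpow_mem mx a) (zpow_mem mu b)
  have b1 : Function.Bijective ((MonoidHom.fst G G').comp Γ.subtype) := by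
    refine ⟨(injective_iff_map_eq_one _).2 fun g e => Subtype.ext ?_, fun g => ?_⟩
    · obtain ⟨a, b, e' | e' | e' | e'⟩ := nf g g.2 <;> change g.1.1 = 1 at e <;> rw [e'] at e ⊢
      exacts [Prod.ext e (h'.one_iff.2 (h.one_iff.1 e)), ((h.ne_one a b).1 e).elim,
        ((h.ne_one a b).2.1 e).elim, ((h.ne_one a b).2.2 e).elim]
    · obtain ⟨a, b, rfl | rfl | rfl | rfl⟩ := h.all g
      exacts [⟨⟨_, mt a b⟩, rfl⟩, ⟨⟨_, mul_mem (mt a b) mw⟩, rfl⟩, ⟨⟨_, mul_mem (mt a b) my⟩, rfl⟩,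
        ⟨⟨_, mul_mem (mul_mem (mt a b) mw) my⟩, rfl⟩]
  have b2 : Function.Bijective ((MonoidHom.snd G G').comp Γ.subtype) := by
    refine ⟨(injective_iff_map_eq_one _).2 fun g e => Subtype.ext ?_, fun g => ?_⟩
    · obtain ⟨a, b, e' | e' | e' | e'⟩ := nf g g.2 <;> change g.1.2 = 1 at e <;> rw [e'] at e ⊢
      exacts [Prod.ext (h.one_iff.2 (h'.one_iff.1 e)) e, ((h'.ne_one a b).1 e).elim,
        ((h'.ne_one a b).2.1 e).elim, ((h'.ne_one a b).2.2 e).elim]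
    · obtain ⟨a, b, rfl | rfl | rfl | rfl⟩ := h'.all g
      exacts [⟨⟨_, mt a b⟩, rfl⟩, ⟨⟨_, mul_mem (mt a b) mw⟩, rfl⟩, ⟨⟨_, mul_mem (mt a b) my⟩, rfl⟩,
        ⟨⟨_, mul_mem (mul_mem (mt a b) mw) my⟩, rfl⟩]
  have k : ∀ g (hg : g ∈ Γ), ((MulEquiv.ofBijective _ b1).symm.trans (MulEquiv.ofBijective _ b2)) g.1 =
      g.2 := fun g hg => by
    rw [MulEquiv.trans_apply, (MulEquiv.symm_apply_eq _).2 (show g.1 = MulEquiv.ofBijective _ b1 ⟨g, hg⟩
      from rfl)]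
    rfl
  exact ⟨_, k _ mx, k _ my, k _ mu, k _ mw⟩

theorem Std.transport (h : Std F k x y z u w α) (h' : Std F' k x' y' z' u' w' α') :
    ∃ (E : FusionSystem (⊤ : Subgroup G)) (β : Equiv.Perm G) (θ : G → G') (θ' : G' → G),
      L.Transp ⊤ ⊤ θ θ' E F' ∧ Std E k x y z u w β := by
  obtain ⟨θ, rfl, rfl, rfl, rfl⟩ := h.exists_iso h'
  obtain rfl : θ z = z' := by rw [h.hyp.hz, h'.hyp.hz, map_pow]
  have pi := pIso_of_mulEquiv θ
  obtain ⟨E, t'⟩ := pi.symm.exists_transp le_rfl F' pi.symm.img_self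
  have t := t'.symm
  have cl : ∀ s : Set G, img θ (closure s) = closure (θ '' s) := fun s => pi.img_closure fun _ _ => trivial
  have cR : ∀ {r}, θ r ∈ closure {θ x, θ y} ↔ r ∈ closure {x, y} := fun {r} => by
    rw [← Set.image_pair, ← cl, pi.apply_mem_img le_top trivial]
  have cA : img θ (closure {x, u, w}) = closure {θ x, θ u, θ w} := by
    rw [cl, Set.image_insert_eq, Set.image_pair]
  have mi : ∀ {P : Subgroup G} {g}, g ∈ P → θ g ∈ img θ P := fun hg => mem_img_of_mem θ hg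
  have ap : ∀ (f : G → G) g, (θ ∘ f ∘ θ.symm) (θ g) = θ (f g) := fun f g => by simp
  have cm : ∀ {a b : G}, Commute a b → Commute (θ a) (θ b) := fun c => c.map θ
  let β : Perm G := θ.toEquiv.symm.permCongr α'
  have hβ : ∀ g, θ (β g) = α' (θ g) := fun g => θ.apply_symm_apply _
  have mβ : ∀ {D : FusionSystem (⊤ : Subgroup G)} {D' : FusionSystem (⊤ : Subgroup G')},
      Transp ⊤ ⊤ θ θ.symm D D' → (D'.IsMap (closure {θ x, θ u, θ w}) α' ↔
        D.IsMap (closure {x, u, w}) β) := fun d =>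
    cA ▸ d.isMap_iff le_top (fun _ _ => trivial) fun g _ => (hβ g).symm
  refine ⟨E, β, θ, θ.symm, t, ⟨h.hyp.pS, t'.isSaturated h'.hyp.sat, h.hyp.k2, trivial, trivial, h.hyp.ox,
    h.hyp.hz, h.hyp.yx, h.hyp.yy, h.hyp.nrm, fun P f hf hz e r hr hR => ?_, fun P f hf hz c1 c2 => ?_,
    fun s s2 s1 c1 c2 P f hf hs hz e => ?_, ?_⟩, h.ou, h.ux, h.ind, h.yu, h.ww, h.wx, h.wu, h.wy, h.all,
    (mβ t).1 h'.map, θ.injective ((hβ u).trans h'.au), θ.injective ?_, θ.injective ((hβ w).trans h'.aw),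
    fun D h1 h2 => ?_⟩
  · exact cR.1 (ap f r ▸ h'.hyp.sc _ _ (t.map hf) (mi hz) (by rw [ap, e]) _ (mi hr) (cR.2 hR))
  · exact θ.injective (ap f z ▸ h'.hyp.wc _ _ (t.map hf) (mi hz) (ap f z ▸ cm c1) (ap f z ▸ cm c2))
  · exact θ.injective (ap f z ▸ h'.hyp.iso (θ s) (by rw [← map_mul, s2, map_one])
      (by simpa using s1) (cm c1) (cm c2) _ _ (t.map hf) (mi hs) (mi hz) (by rw [ap, e]))
  · intro g _
    have := h'.hyp.foc (mem_top (θ g))
    rwa [← t.img_focal, pi.apply_mem_img le_top trivial] at this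
  · rw [hβ, h'.ax, map_inv, map_mul]
  · obtain ⟨D', d⟩ := pi.exists_transp le_rfl D pi.img_self
    refine d.symm.isSubsystemOf t' (h'.gen D' (fun P σ hσ hz e => ?_) ((mβ d).2 h2))
    have e1 := h1 _ (θ.toEquiv.symm.permCongr σ) (t'.map hσ)
      (by simpa using mem_img_of_mem θ.symm hz) (θ.injective ((θ.apply_symm_apply _).trans e))
    have e2 := (d.isMap_iff le_top (fun _ _ => trivial) (f' := σ)
      fun g _ => (θ.apply_symm_apply _).symm).2 e1
    rwa [d.img_img' le_top] at e2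

end Cfsg.Agent.Wz
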